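import Cfsg.Agent.Lib.SharpThree.PGL
import Cfsg.Agent.Lib.Perm.SharpTwo
import Cfsg.Agent.Lib.SuzukiTwo.Alternating
import Mathlib.RingTheory.LittleWedderburn
import Mathlib.Algebra.Field.Shrink
import Mathlib.Algebra.Ring.Shrink

/-!
Coordinates for finite sharply three-transitive groups: the regular normal subgroup of a point stabiliser,
and, when a two-point stabiliser is commutative, a field coordinatisation leading to `PGL₂`.
-/

set_option autoImplicit false

namespace CfsgLib.SharpThree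

open MulAction

variable {G α : Type*} [Group G] [MulAction G α] [Fintype α] [DecidableEq α] [Finite G]

/-- The regular normal subgroup of a point stabiliser. -/
theorem IsS3.exists_kernel (h : IsS3 G α) (hn : 3 ≤ Fintype.card α) (a : α) :
    ∃ (K : Subgroup (stabilizer G a)) (p f : ℕ), K.Normal ∧ p.Prime ∧ 1 ≤ f ∧
      Fintype.card α = p ^ f + 1 ∧ Nat.card K = p ^ f ∧ IsMulCommutative K ∧ (∀ x ∈ K, x ^ p = 1) ∧
      (∀ x y : α, x ≠ a → y ≠ a → ∃ k ∈ K, (k : G) • x = y) ∧
      (∀ k ∈ K, ∀ x : α, x ≠ a → (k : G) • x = x → k = 1) := by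
  classical
  haveI := h.trans
  haveI hpre : IsPretransitive G α := by
    refine ⟨fun x y => ?_⟩
    obtain ⟨x', hx1, -⟩ := exists_third hn x x
    obtain ⟨y', hy1, -⟩ := exists_third hn y y
    obtain ⟨g, hg, -⟩ := h.two_trans hn hx1.symm hy1.symm
    exact ⟨g, hg⟩
  haveI h2 : IsMultiplyPretransitive (stabilizer G a) (SubMulAction.ofStabilizer G a) 2 :=
    (SubMulAction.ofStabilizer.isMultiplyPretransitive (a := a)).1 inferInstance
  haveI : Fintype (SubMulAction.ofStabilizer G a) := Fintype.ofFinite _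
  haveI : DecidableEq (SubMulAction.ofStabilizer G a) := Classical.decEq _
  have hc : Fintype.card (SubMulAction.ofStabilizer G a) + 1 = Fintype.card α := by
    rw [← Nat.card_eq_fintype_card, ← Nat.card_eq_fintype_card, SubMulAction.nat_card_ofStabilizer_add_one_eq]
  have hsharp : ∀ x : Fin 2 ↪ SubMulAction.ofStabilizer G a, stabilizer (stabilizer G a) x = ⊥ := by
    intro x
    refine (Subgroup.eq_bot_iff_forall _).2 fun g hg => Subtype.ext ?_
    refine h.eq_one (a := a) (b := (x 0 : α)) (c := (x 1 : α)) (fun e => (x 0).2 e.symm) (fun e => (x 1).2 e.symm)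
      (fun e => absurd (x.injective (Subtype.ext e)) (by decide)) g.2 ?_ ?_
    · exact congrArg Subtype.val (congrArg (fun e : Fin 2 ↪ SubMulAction.ofStabilizer G a => e 0) hg)
    · exact congrArg Subtype.val (congrArg (fun e : Fin 2 ↪ SubMulAction.ofStabilizer G a => e 1) hg)
  obtain ⟨K, p, f, hN, hp, hf, hcard, -, hK, hcomm, hexp, htr, hfree, -⟩ :=
    CfsgLib.Perm.exists_regular_kernel hsharp (show 2 ≤ Fintype.card (SubMulAction.ofStabilizer G a) by omega)
  refine ⟨K, p, f, hN, hp, hf, by omega, hK, hcomm, hexp, fun x y hx hy => ?_, fun k hk x hx hkx => ?_⟩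
  · obtain ⟨k, hk⟩ := htr.exists_smul_eq ⟨x, hx⟩ ⟨y, hy⟩
    exact ⟨k, k.2, congrArg Subtype.val hk⟩
  · have hm : (⟨k, hk⟩ : K) ∈ stabilizer K (⟨x, hx⟩ : SubMulAction.ofStabilizer G a) := Subtype.ext hkx
    rw [hfree, Subgroup.mem_bot] at hm
    exact congrArg Subtype.val hm

omit [Fintype α] [DecidableEq α] [Finite G] in
/-- An element exchanging two points and fixing a third. -/
theorem IsS3.swap_sq (h : IsS3 G α) {a b c : α} (hab : a ≠ b) (hac : a ≠ c) (hbc : b ≠ c)
    {s : G} (hsa : s • a = b) (hsb : s • b = a) (hsc : s • c = c) : s * s = 1 :=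
  h.eq_one hab hac hbc (by rw [mul_smul, hsa, hsb]) (by rw [mul_smul, hsb, hsa]) (by rw [mul_smul, hsc, hsc])

/-- A commutative two-point stabiliser forces `PGL₂` over a field. -/
theorem IsS3.exists_mulEquiv_pgl (h : IsS3 G α) {a b c : α} (hab : a ≠ b) (hac : a ≠ c) (hbc : b ≠ c)
    {s : G} (hsa : s • a = b) (hsb : s • b = a) (hsc : s • c = c)
    (hM : ∀ m m' : G, m • a = a → m • b = b → m' • a = a → m' • b = b → m * m' = m' * m) :
    ∃ (F : Type) (_ : Field F) (_ : Fintype F), Fintype.card F + 1 = Fintype.card α ∧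
      Nonempty (G ≃* Matrix.ProjGenLinGroup (Fin 2) F) := by
  classical
  have hn : 3 ≤ Fintype.card α := by
    have e : ({a, b, c} : Finset α).card = 3 := by simp [hab, hac, hbc]
    exact e ▸ Finset.card_le_univ _
  have hss := h.swap_sq hab hac hbc hsa hsb hsc
  have ss : ∀ x : α, s • s • x = x := fun x => by rw [← mul_smul, hss, one_smul]
  obtain ⟨K, p, f, hN, hp, -, hcard, hK, hcomm, -, htr, hfree⟩ := h.exists_kernel hn a
  haveI := hN
  let M : Subgroup G := stabilizer G a ⊓ stabilizer G b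
  letI : CommGroup K := { (inferInstance : Group K) with mul_comm := hcomm.is_comm.comm }
  let ι : M →* MulAut K := (MulAut.conjNormal : stabilizer G a →* MulAut K).comp (Subgroup.inclusion inf_le_left)
  have hι : ∀ (m : M) (k : K), (((ι m k : K) : stabilizer G a) : G) • b = (m : G) • (((k : stabilizer G a) : G) • b) := by
    intro m k
    have hmb : (m : G)⁻¹ • b = b := by
      rw [inv_smul_eq_iff]; exact m.2.2.symm
    show ((Subgroup.inclusion inf_le_left m * (k : stabilizer G a) * (Subgroup.inclusion inf_le_left m)⁻¹ :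
      stabilizer G a) : G) • b = _
    rw [Subgroup.coe_mul, Subgroup.coe_mul, Subgroup.coe_inv, mul_smul, mul_smul, Subgroup.coe_inclusion, hmb]
  have hinj : ∀ k k' : K, ((k : stabilizer G a) : G) • b = ((k' : stabilizer G a) : G) • b → k = k' := by
    intro k k' hkk
    have h1 := hfree (((k'⁻¹ * k : K) : stabilizer G a)) (k'⁻¹ * k).2 b hab.symm (by
      rw [Subgroup.coe_mul, Subgroup.coe_mul, Subgroup.coe_inv, Subgroup.coe_inv, mul_smul, hkk, inv_smul_smul])
    exact (inv_mul_eq_one.1 (Subtype.ext h1 : k'⁻¹ * k = 1)).symm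
  have hmove : ∀ (k : K), ((k : stabilizer G a) : G) • b ≠ a := fun k e =>
    hab (MulAction.injective ((k : stabilizer G a) : G) (((k : stabilizer G a).2 : _ = a).trans e.symm))
  obtain ⟨k1, hk1, hk1c⟩ := htr b c hab.symm hac.symm
  have he : (⟨k1, hk1⟩ : K) ≠ 1 := fun e => hbc (by
    rw [show k1 = 1 from congrArg Subtype.val e] at hk1c
    simpa using hk1c)
  obtain ⟨F0, iF0, iFt, ψ0, hψ1', hψa'⟩ := CfsgLib.SuzukiTwo.exists_field_structure ι
    (fun m m' x => by
      have e : m * m' = m' * m := Subtype.ext (hM m m' m.2.1 m.2.2 m'.2.1 m'.2.2)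
      rw [← MulAut.mul_apply, ← MulAut.mul_apply, ← map_mul, ← map_mul, e])
    he (fun k hk => by
      obtain ⟨g, g1, g2, g3⟩ := h.exists_three hab hac hbc hab (hmove k).symm
        (fun e => hk (hinj k 1 (by simpa using e.symm)))
      refine ⟨⟨g, g1, g2⟩, hinj _ _ ?_⟩
      rw [hι]
      show g • (k1 : G) • b = _
      rw [hk1c, g3])
  haveI : Small.{0} F0 := Countable.toSmall F0
  let r : Shrink.{0} F0 ≃+* F0 := Shrink.ringEquiv.{0} F0
  let F := Shrink.{0} F0
  haveI : Fintype F := Fintype.ofEquiv F0 (equivShrink.{0} F0)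
  let ψ : F → K := fun x => ψ0 (Multiplicative.ofAdd (r x))
  have hψadd : ∀ x y, ψ (x + y) = ψ x * ψ y := fun x y => by
    simp only [ψ, map_add, ofAdd_add, map_mul]
  have hψ1 : ψ 1 = ⟨k1, hk1⟩ := by simp only [ψ, map_one, hψ1']
  have hψ0 : ψ 0 = 1 := by simp only [ψ, map_zero, ofAdd_zero, map_one]
  have hψbij : Function.Bijective ψ :=
    ψ0.bijective.comp (Multiplicative.ofAdd.bijective.comp r.bijective)
  have hψa : ∀ m : M, ∃ u : F, u ≠ 0 ∧ ∀ x, ι m (ψ x) = ψ (u * x) := fun m => by
    obtain ⟨u, hu, hux⟩ := hψa' m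
    exact ⟨r.symm u, by simpa using hu, fun x => by simp only [ψ, map_mul, r.apply_symm_apply, hux]⟩
  choose μ hμ0 hμ using hψa
  -- the coordinates
  let pt : F → α := fun x => ((ψ x : stabilizer G a) : G) • b
  have pt0 : pt 0 = b := by simp [pt, hψ0]
  have pt1 : pt 1 = c := by simp [pt, hψ1, hk1c]
  have ptne : ∀ x, pt x ≠ a := fun x => hmove _
  have ptinj : Function.Injective pt := fun x y hxy => hψbij.1 (hinj _ _ hxy)
  have ptsurj : ∀ y : α, y ≠ a → ∃ x, pt x = y := fun y hy => by
    obtain ⟨k, hk, hky⟩ := htr b y hab.symm hy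
    obtain ⟨x, hx⟩ := hψbij.2 ⟨k, hk⟩
    exact ⟨x, by simp [pt, hx, hky]⟩
  have hμpt : ∀ (m : M) (x : F), (m : G) • pt x = pt (μ m * x) := fun m x => by
    simp only [pt, ← hι, hμ]
  have hμc : ∀ (m : M), (m : G) • c = pt (μ m) := fun m => by rw [← pt1, hμpt, mul_one]
  let e : OnePoint F ≃ α := Equiv.ofBijective (fun x => x.elim a pt) ⟨by
    rintro (_ | x) (_ | y) hxy
    · rfl
    · exact absurd hxy.symm (ptne y)
    · exact absurd hxy (ptne x)
    · exact congrArg some (ptinj hxy), fun y => by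
    by_cases hy : y = a
    · exact ⟨none, hy.symm⟩
    · obtain ⟨x, hx⟩ := ptsurj y hy
      exact ⟨some x, hx⟩⟩
  have e_inf : e OnePoint.infty = a := rfl
  have e_coe : ∀ x : F, e (x : OnePoint F) = pt x := fun _ => rfl
  have hcardF : Fintype.card F + 1 = Fintype.card α := by
    rw [← Fintype.card_congr e]
    exact (Fintype.card_option (α := F)).symm
  -- scalings
  have hscale : ∀ u : F, u ≠ 0 → ∃ m : M, μ m = u := by
    intro u hu
    obtain ⟨g, g1, g2, g3⟩ := h.exists_three hab hac hbc hab (ptne u).symm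
      (fun e' => hu (ptinj (e'.symm.trans pt0.symm)))
    exact ⟨⟨g, g1, g2⟩, ptinj ((hμc ⟨g, g1, g2⟩).symm.trans g3)⟩
  -- the inversion
  have hsM : ∀ m : M, s * (m : G) * s ∈ M := fun m =>
    ⟨by simp [mul_smul, hsa, hsb, show (m : G) • b = b from m.2.2],
      by simp [mul_smul, hsa, hsb, show (m : G) • a = a from m.2.1]⟩
  have hspt : ∀ x : F, x ≠ 0 → ∃ y : F, y ≠ 0 ∧ s • pt x = pt y := by
    intro x hx
    have h1 : s • pt x ≠ a := fun e' => hx (ptinj (by rw [pt0, ← hsa, ← e', ss]))
    obtain ⟨y, hy⟩ := ptsurj _ h1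
    refine ⟨y, fun h0 => ?_, hy.symm⟩
    rw [h0, pt0] at hy
    exact ptne x (MulAction.injective s (hy.symm.trans hsa.symm))
  choose! φ hφ0 hφ using hspt
  have φφ : ∀ x, x ≠ 0 → φ (φ x) = x := fun x hx => ptinj (by rw [← hφ _ (hφ0 x hx), ← hφ x hx, ss])
  have φ1 : φ 1 = 1 := ptinj (by rw [← hφ 1 one_ne_zero, pt1, hsc])
  have hφμ : ∀ m : M, φ (μ m) = μ ⟨_, hsM m⟩ := fun m => ptinj (by
    rw [← hφ _ (hμ0 m), ← hμc, ← hμc]
    show s • (m : G) • c = (s * (m : G) * s) • c
    rw [mul_smul, mul_smul, hsc])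
  have hμmul : ∀ m m' : M, μ (m * m') = μ m * μ m' := fun m m' => ptinj (by
    rw [← hμc, Subgroup.coe_mul, mul_smul, hμc m', hμpt])
  have φmul : ∀ x y, x ≠ 0 → y ≠ 0 → φ (x * y) = φ x * φ y := by
    intro x y hx hy
    obtain ⟨m, rfl⟩ := hscale x hx
    obtain ⟨m', rfl⟩ := hscale y hy
    rw [← hμmul, hφμ, hφμ, hφμ, ← hμmul]
    congr 1
    apply Subtype.ext
    simp only [Subgroup.coe_mul, mul_assoc]
    rw [← mul_assoc s s, hss, one_mul]
  have hfixφ : ∀ z, z ≠ 0 → φ z = z → z = 1 ∨ z = -1 := by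
    intro z hz hz'
    by_contra hcon
    push Not at hcon
    have hz2 : φ (z * z) = z * z := by rw [φmul z z hz hz, hz']
    by_cases hzz : z * z = 1
    · rcases mul_self_eq_one_iff.1 hzz with h' | h'
      exacts [hcon.1 h', hcon.2 h']
    have hs1 : s ≠ 1 := fun e' => hab (by rw [e', one_smul] at hsa; exact hsa)
    exact hs1 (h.eq_one (a := pt 1) (b := pt z) (c := pt (z * z)) (ptinj.ne (Ne.symm hcon.1)) (ptinj.ne (Ne.symm hzz))
      (ptinj.ne fun e' => hcon.1 (mul_left_cancel₀ hz (by rw [mul_one]; exact e'.symm)))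
      (by rw [hφ 1 one_ne_zero, φ1]) (by rw [hφ z hz, hz']) (by rw [hφ _ (mul_ne_zero hz hz), hz2]))
  have φneg1 : φ (-1) = -1 := by
    have h1 : φ (-1) * φ (-1) = 1 := by
      rw [← φmul _ _ (by simp) (by simp), neg_mul_neg, one_mul, φ1]
    rcases mul_self_eq_one_iff.1 h1 with h' | h'
    · have : (-1 : F) = 1 := by rw [← φφ (-1) (by simp), h', φ1]
      rw [this, φ1]
    · exact h'
  -- the translation by one and the functional equation
  have htrans : ∀ v : F, ∃ g : G, g • a = a ∧ ∀ x, g • pt x = pt (x + v) := fun v =>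
    ⟨((ψ v : stabilizer G a) : G), (ψ v : stabilizer G a).2, fun x => by
      simp only [pt, ← mul_smul, ← Subgroup.coe_mul, ← hψadd, add_comm v x]⟩
  obtain ⟨t, ta, tx⟩ := htrans 1
  obtain ⟨j, hj⟩ := hscale (-1) (by simp)
  have hj' : ∀ x, (j : G) • pt x = pt (-x) := fun x => by rw [hμpt, hj, neg_one_mul]
  have heq : s * t * s = t * s * (j : G) * t := by
    have n1 : b ≠ pt (-1) := fun e' => by
      rw [← pt0] at e'
      exact one_ne_zero (neg_eq_zero.1 (ptinj e').symm)
    refine h.eq_of_three hab (ptne (-1)).symm n1 ?_ ?_ ?_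
    · rw [mul_smul, mul_smul, mul_smul, mul_smul, mul_smul, hsa, ta, show (j : G) • a = a from j.2.1, hsa, ← pt0, tx,
        zero_add, pt1, hsc]
    · rw [mul_smul, mul_smul, mul_smul, mul_smul, mul_smul, hsb, ta, hsa]
      rw [← pt0, tx, zero_add, hj', hφ _ (by simp), φneg1, tx, neg_add_cancel]
    · rw [mul_smul, mul_smul, mul_smul, mul_smul, mul_smul, hφ _ (by simp), φneg1, tx, neg_add_cancel, pt0, hsb]
      rw [show (j : G) • b = b from j.2.2, hsb, ta]
  have feq : ∀ u : F, u ≠ 0 → u ≠ -1 → φ (φ u + 1) = φ (-(u + 1)) + 1 := by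
    intro u hu hu1
    have h1 : φ u + 1 ≠ 0 := fun h0 => hu1 (by
      rw [← φφ u hu, eq_neg_of_add_eq_zero_left h0, φneg1])
    have h2 : -(u + 1) ≠ 0 := fun h0 => hu1 (eq_neg_of_add_eq_zero_left (neg_eq_zero.1 h0))
    have := congrArg (fun g : G => g • pt u) heq
    simp only [mul_smul, hφ u hu, tx, hj'] at this
    rw [hφ _ h1, hφ _ h2, tx] at this
    exact ptinj this
  -- the inversion is the inversion of the field
  have hε : ∀ x : F, x ≠ 0 → x * φ x = 1 ∨ x * φ x = -1 := fun x hx =>
    hfixφ _ (mul_ne_zero hx (hφ0 x hx)) (by rw [φmul x _ hx (hφ0 x hx), φφ x hx, mul_comm])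
  have φnegmul : ∀ x, x ≠ 0 → φ (-x) = -φ x := fun x hx => by
    rw [← neg_one_mul, φmul _ _ (by simp) hx, φneg1, neg_one_mul]
  have hclosed : ∀ w : F, w ≠ 0 → w * φ w = 1 → w + 1 ≠ 0 → (w + 1) * φ (w + 1) = 1 := by
    intro w hw hw1 hw2
    have hne : φ w ≠ -1 := fun h0 => hw2 (by
      have hw' : w = -1 := by rw [← φφ w hw, h0, φneg1]
      rw [hw', neg_add_cancel])
    have he1 := feq (φ w) (hφ0 w hw) hne
    rw [φφ w hw] at he1
    have hh : φ w + 1 = (w + 1) * φ w := by rw [add_mul, hw1, one_mul, add_comm]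
    rw [φnegmul _ (by rw [hh]; exact mul_ne_zero hw2 (hφ0 w hw)), hh,
      φmul _ _ hw2 (hφ0 w hw), φφ w hw] at he1
    linear_combination he1
  have hinvφ : ∀ x : F, x ≠ 0 → φ x = x⁻¹ := by
    let S : Set F := {x | x = 0 ∨ x * φ x = 1}
    have hS1 : ∀ x, x ∈ S → x + 1 ∈ S := by
      rintro x (rfl | hx)
      · exact Or.inr (by rw [zero_add, φ1, mul_one])
      · by_cases h0 : x + 1 = 0
        · exact Or.inl h0
        · exact Or.inr (hclosed x (left_ne_zero_of_mul_eq_one hx) hx h0)
    have hSmul : ∀ x y, x ∈ S → y ∈ S → x * y ∈ S := by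
      rintro x y (rfl | hx) (rfl | hy)
      · exact Or.inl (zero_mul _)
      · exact Or.inl (zero_mul _)
      · exact Or.inl (mul_zero _)
      refine Or.inr ?_
      rw [φmul x y (left_ne_zero_of_mul_eq_one hx) (left_ne_zero_of_mul_eq_one hy)]
      calc x * y * (φ x * φ y) = (x * φ x) * (y * φ y) := by ring
        _ = 1 := by rw [hx, hy, one_mul]
    let A : AddSubmonoid F :=
      { carrier := S
        zero_mem' := Or.inl rfl
        add_mem' := fun {x y} hx hy => by
          by_cases hy0 : y = 0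
          · simpa [hy0] using hx
          rcases hy with hy | hy
          · exact absurd hy hy0
          have hyi : y⁻¹ ∈ S := by
            right
            have hφi : φ y⁻¹ = y := by
              rw [← eq_inv_of_mul_eq_one_right hy, φφ y hy0]
            rw [hφi, inv_mul_cancel₀ hy0]
          have h1 := hSmul _ _ (Or.inr hy : y ∈ S) (hS1 _ (hSmul _ _ hx hyi))
          have e' : y * (x * y⁻¹ + 1) = x + y := by
            rw [mul_add, mul_one, mul_left_comm, mul_inv_cancel₀ hy0, mul_one]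
          rwa [e'] at h1 }
    let B : AddSubgroup F :=
      { A with
        neg_mem' := fun {x} hx => by
          have hm : (-1 : F) ∈ S := Or.inr (by rw [φneg1]; ring)
          have h2 := hSmul (-1) x hm hx
          rw [neg_one_mul] at h2
          exact h2 }
    intro x hx
    by_contra hne
    have hxS : x ∉ B := by
      rintro (h0 | h0)
      · exact hx h0
      · exact hne (eq_inv_of_mul_eq_one_right h0)
    have hdiv := AddSubgroup.card_addSubgroup_dvd_card B
    have hlt : Nat.card B < Nat.card F :=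
      Finite.card_subtype_lt (p := fun z => z ∈ B) hxS
    -- the complement injects into `B` by multiplication with `x`
    have hle : Nat.card F + 1 ≤ 2 * Nat.card B := by
      rw [Nat.card_eq_fintype_card (α := B), Fintype.card_subtype, Nat.card_eq_fintype_card, ← Finset.card_univ]
      have hsub : ((Finset.univ : Finset F).filter fun z => ¬ z ∈ B).image (fun z => x * z) ⊆
          ((Finset.univ : Finset F).filter fun z => z ∈ B).erase 0 := by
        intro z hz
        simp only [Finset.mem_image, Finset.mem_filter, Finset.mem_univ, true_and] at hz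
        obtain ⟨w, hw, rfl⟩ := hz
        have hw0 : w ≠ 0 := fun h0 => hw (h0 ▸ B.zero_mem)
        have e1 : x * φ x = -1 := (hε x hx).resolve_left fun h0 => hxS (Or.inr h0)
        have e2 : w * φ w = -1 := (hε w hw0).resolve_left fun h0 => hw (Or.inr h0)
        simp only [Finset.mem_erase, Finset.mem_filter, Finset.mem_univ, true_and]
        refine ⟨mul_ne_zero hx hw0, Or.inr ?_⟩
        rw [φmul x w hx hw0]
        calc x * w * (φ x * φ w) = (x * φ x) * (w * φ w) := by ring
          _ = 1 := by rw [e1, e2, neg_mul_neg, one_mul]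
      have h1 := Finset.card_le_card hsub
      rw [Finset.card_image_of_injective _ (mul_right_injective₀ hx), Finset.card_erase_of_mem (by simp [B.zero_mem])] at h1
      have h2 := Finset.card_filter_add_card_filter_not (s := (Finset.univ : Finset F)) (fun z => z ∈ B)
      have h3 : 0 < ((Finset.univ : Finset F).filter fun z => z ∈ B).card :=
        Finset.card_pos.2 ⟨0, by simp [B.zero_mem]⟩
      omega
    obtain ⟨d, hd⟩ := hdiv
    rcases Nat.lt_or_ge d 2 with hd2 | hd2
    · have hpos : 0 < Nat.card F := Nat.card_pos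
      interval_cases d
      · rw [mul_zero] at hd; omega
      · rw [mul_one] at hd; omega
    · have := Nat.mul_le_mul_left (Nat.card B) hd2
      omega
  refine ⟨F, inferInstance, inferInstance, hcardF, mulEquiv_pgl h e ?_ ?_ ?_⟩
  · intro v
    obtain ⟨g, ga, gx⟩ := htrans v
    refine ⟨g, fun x => ?_⟩
    cases x with
    | infty => rw [transMat_smul_infty, e_inf, ga]
    | coe x => rw [transMat_smul, e_coe, e_coe, gx]
  · intro u hu
    obtain ⟨m, rfl⟩ := hscale u hu
    refine ⟨m, fun x => ?_⟩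
    cases x with
    | infty => rw [scaleMat_smul_infty, e_inf]; exact m.2.1
    | coe x => rw [scaleMat_smul, e_coe, e_coe, hμpt]
  · refine ⟨s, fun x => ?_⟩
    cases x with
    | infty => rw [invMat_smul_infty, e_inf, e_coe, pt0, hsa]
    | coe x =>
      by_cases hx : x = 0
      · subst hx
        rw [invMat_smul_zero, e_inf, e_coe, pt0, hsb]
      · rw [invMat_smul x hx, e_coe, e_coe, hφ x hx, hinvφ x hx]

end CfsgLib.SharpThree
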