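import Cfsg.Agent.Lib.SharpThree.TwoPoint
import Cfsg.Agent.Lib.SharpThree.Coord
import Mathlib.FieldTheory.Finite.Basic
import Mathlib.FieldTheory.Galois.Basic
import Mathlib.Algebra.Ring.Subring.Basic
import Mathlib.RingTheory.IntegralDomain
import Mathlib.Algebra.Group.End

/-!
The two-point stabiliser of a sharply three-transitive group acting on the regular kernel: a commutative
subgroup of index two, and commutativity for odd prime-power exponent.
-/

set_option autoImplicit false

namespace CfsgLib.SharpThree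

section Linear

variable {M : Type*} [Group M] [Finite M] {V : Type*} [AddCommGroup V] [Finite V]

/-- A fixed-point-free representation. -/
def Fpf (ρ : M →* AddMonoid.End V) : Prop := ∀ (m : M) (v : V), ρ m v = v → m = 1 ∨ v = 0

variable {ρ : M →* AddMonoid.End V}

omit [Finite V] in
theorem end_mul_apply (φ ψ : AddMonoid.End V) (v : V) : (φ * ψ) v = φ (ψ v) := rfl

omit [Finite M] [Finite V] in
theorem Fpf.inj (hρ : Fpf ρ) {v : V} (hv : v ≠ 0) {m m' : M} (h : ρ m v = ρ m' v) : m = m' := by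
  have e : ρ (m'⁻¹ * m) v = v := by
    rw [map_mul, end_mul_apply, h, ← end_mul_apply, ← map_mul, inv_mul_cancel, map_one]
    rfl
  exact (inv_mul_eq_one.1 ((hρ _ _ e).resolve_right hv)).symm

/-- The span of an orbit is everything, when no smaller power of `p` minus one is divisible by the order. -/
theorem Fpf.span_eq_top (hρ : Fpf ρ) (A : Subgroup M) {p f : ℕ} (hp : p.Prime) (hV : Nat.card V = p ^ f)
    (hmin : ∀ g, g < f → 1 ≤ g → ¬ Nat.card A ∣ p ^ g - 1) {v : V} (hv : v ≠ 0) :
    AddSubgroup.closure (Set.range fun a : A => ρ a v) = ⊤ := by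
  set S := AddSubgroup.closure (Set.range fun a : A => ρ a v) with hS
  have hinv : ∀ (a : A) (w : V), w ∈ S → ρ a w ∈ S := by
    intro a w hw
    have hle : S ≤ AddSubgroup.comap (ρ a : V →+ V) S := by
      rw [hS, AddSubgroup.closure_le]
      rintro _ ⟨b, rfl⟩
      refine AddSubgroup.subset_closure ⟨a * b, ?_⟩
      simp only [Subgroup.coe_mul, map_mul]
      rfl
    exact hle hw
  let X := {w : V // w ∈ S ∧ w ≠ 0}
  letI act : MulAction A X :=
    { smul := fun a w => ⟨ρ a (w : V), hinv a _ w.2.1, fun h0 => w.2.2 (by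
        have := congrArg (ρ (a : M)⁻¹) h0
        rw [← end_mul_apply, ← map_mul, inv_mul_cancel, map_one, map_zero] at this
        exact this)⟩
      one_smul := fun w => Subtype.ext (show ρ ((1 : A) : M) (w : V) = w by rw [Subgroup.coe_one, map_one]; rfl)
      mul_smul := fun a b w => Subtype.ext (show ρ ((a * b : A) : M) (w : V) = ρ a (ρ b (w : V)) by
        rw [Subgroup.coe_mul, map_mul]; rfl) }
  have hstab : ∀ w : X, MulAction.stabilizer A w = ⊥ := fun w => by
    rw [Subgroup.eq_bot_iff_forall]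
    intro a ha
    exact Subtype.ext ((hρ _ _ (congrArg Subtype.val (MulAction.mem_stabilizer_iff.1 ha))).resolve_right w.2.2)
  have hdvd : Nat.card A ∣ Nat.card S - 1 := by
    have h1 : Nat.card X = Nat.card S - 1 := by
      classical
      haveI := Fintype.ofFinite V
      haveI := Fintype.ofFinite X
      rw [Nat.card_eq_fintype_card, Nat.card_eq_fintype_card,
        show Fintype.card X = (Finset.univ.filter fun w : V => w ∈ S ∧ w ≠ 0).card from Fintype.card_subtype _,
        show Fintype.card S = (Finset.univ.filter fun w : V => w ∈ S).card from Fintype.card_subtype _,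
        ← Finset.card_erase_of_mem (show (0 : V) ∈ Finset.univ.filter fun w : V => w ∈ S by simp [S.zero_mem])]
      congr 1
      ext w
      simp [and_comm]
    rw [← h1, Nat.card_congr (MulAction.selfEquivOrbitsQuotientProd hstab), Nat.card_prod]
    exact dvd_mul_left _ _
  obtain ⟨g, hgf, hg⟩ := (Nat.dvd_prime_pow hp).1 (hV ▸ AddSubgroup.card_addSubgroup_dvd_card S)
  rcases Nat.eq_zero_or_pos g with rfl | hg1
  · exfalso
    rw [pow_zero] at hg
    have := AddSubgroup.eq_bot_of_card_eq S hg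
    refine hv ?_
    have h2 : ρ ((1 : A) : M) v ∈ S := AddSubgroup.subset_closure ⟨1, rfl⟩
    rw [this, AddSubgroup.mem_bot, Subgroup.coe_one, map_one] at h2
    exact h2
  rcases lt_or_eq_of_le hgf with h | h
  · exact absurd (hg ▸ hdvd) (hmin g h hg1)
  · exact AddSubgroup.eq_top_of_card_eq S (by rw [hg, hV, h])

/-- The ring generated by a subgroup. -/
def ring (ρ : M →* AddMonoid.End V) (A : Subgroup M) : Subring (AddMonoid.End V) :=
  Subring.closure (Set.range fun a : A => ρ a)

omit [Finite M] [Finite V] in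
theorem mem_ring (A : Subgroup M) {a : M} (ha : a ∈ A) : ρ a ∈ ring ρ A := Subring.subset_closure ⟨⟨a, ha⟩, rfl⟩

omit [Finite M] [Finite V] in
theorem ring_commute (A : Subgroup M) {φ : AddMonoid.End V} (hφ : ∀ a : A, φ * ρ a = ρ a * φ)
    {r : AddMonoid.End V} (hr : r ∈ ring ρ A) : φ * r = r * φ := by
  have : ring ρ A ≤ Subring.centralizer {φ} := by
    rw [ring, Subring.closure_le]
    rintro _ ⟨a, rfl⟩
    rw [SetLike.mem_coe, Subring.mem_centralizer_iff]
    intro x hx
    rw [Set.mem_singleton_iff] at hx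
    rw [hx]; exact hφ a
  exact Subring.mem_centralizer_iff.1 (this hr) φ rfl

omit [Finite M] [Finite V] in
theorem commute_of_mem (A : Subgroup M) (hA : ∀ x ∈ A, ∀ y ∈ A, x * y = y * x) {r : AddMonoid.End V}
    (hr : r ∈ ring ρ A) {a : M} (ha : a ∈ A) : r * ρ a = ρ a * r :=
  (ring_commute A (fun b => by rw [← map_mul, ← map_mul, hA a ha b b.2]) hr).symm

omit [Finite M] [Finite V] in
theorem eq_of_span {A : Subgroup M} {v : V} (hsp : AddSubgroup.closure (Set.range fun a : A => ρ a v) = ⊤)
    {φ ψ : AddMonoid.End V} (hφ : ∀ a : A, φ * ρ a = ρ a * φ) (hψ : ∀ a : A, ψ * ρ a = ρ a * ψ)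
    (h : φ v = ψ v) : φ = ψ := by
  refine AddMonoidHom.eq_of_eqOn_dense hsp ?_
  rintro _ ⟨a, rfl⟩
  have e1 := congrArg (fun t : AddMonoid.End V => t v) (hφ a)
  have e2 := congrArg (fun t : AddMonoid.End V => t v) (hψ a)
  simp only [end_mul_apply] at e1 e2
  exact e1.trans ((congrArg (ρ a) h).trans e2.symm)

omit [Finite M] [Finite V] in
theorem exists_ring_of_span {A : Subgroup M} {v : V}
    (hsp : AddSubgroup.closure (Set.range fun a : A => ρ a v) = ⊤) (w : V) : ∃ r ∈ ring ρ A, r v = w := by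
  have : w ∈ AddSubgroup.closure (Set.range fun a : A => ρ a v) := hsp ▸ AddSubgroup.mem_top w
  induction this using AddSubgroup.closure_induction with
  | mem x hx =>
    obtain ⟨a, rfl⟩ := hx
    exact ⟨ρ a, mem_ring A a.2, rfl⟩
  | zero => exact ⟨0, (ring ρ A).zero_mem, rfl⟩
  | add x y _ _ hx hy =>
    obtain ⟨r, hr, rfl⟩ := hx
    obtain ⟨t, ht, rfl⟩ := hy
    exact ⟨r + t, (ring ρ A).add_mem hr ht, rfl⟩
  | neg x _ hx =>
    obtain ⟨r, hr, rfl⟩ := hx
    exact ⟨-r, (ring ρ A).neg_mem hr, rfl⟩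

theorem no_small_exception {p f a c g : ℕ} (hp : 2 ≤ p) (hc : c ∣ 24) (h6 : 6 ∣ a) (hca : c * a = p ^ f - 1)
    (h9 : 9 ∣ p ^ f - 1) (hg : g < f) (hg1 : 1 ≤ g) : ¬ a ∣ p ^ g - 1 := by
  intro hd
  set d := Nat.gcd f g with hdef
  have hd1 : a ∣ p ^ d - 1 := by
    rw [hdef, ← Nat.pow_sub_one_gcd_pow_sub_one]
    exact Nat.dvd_gcd (Dvd.intro_left c hca) hd
  obtain ⟨e, he⟩ := (Nat.gcd_dvd_left f g)
  rw [← hdef] at he
  have hd0 : 1 ≤ d := Nat.gcd_pos_of_pos_right f hg1
  have hdg : d ≤ g := Nat.le_of_dvd hg1 (Nat.gcd_dvd_right f g)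
  have he2 : 2 ≤ e := by
    rcases e with _ | _ | e
    · rw [mul_zero] at he; omega
    · rw [he] at hg; omega
    · omega
  rw [he, pow_mul] at hca h9
  generalize hr : p ^ d = r at *
  have hr2 : 2 ≤ r := hr ▸ le_trans hp (Nat.le_self_pow (by omega) p)
  have hr7 : 7 ≤ r := by
    have : 6 ≤ r - 1 := Nat.le_of_dvd (by omega) (h6.trans hd1)
    omega
  have hle : r ^ e - 1 ≤ 24 * (r - 1) := by
    rw [← hca]
    exact Nat.mul_le_mul (Nat.le_of_dvd (by omega) hc) (Nat.le_of_dvd (by omega) hd1)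
  obtain rfl : e = 2 := by
    by_contra hne
    have h3 : r ^ 3 ≤ r ^ e := Nat.pow_le_pow_right (by omega) (by omega)
    have h4 : r * r * 7 ≤ r ^ 3 := by rw [show r ^ 3 = r * r * r by ring]; exact Nat.mul_le_mul_left _ hr7
    have h5 : 7 * r ≤ r * r := Nat.mul_le_mul_right r hr7
    omega
  have h24 : r ≤ 23 := by
    by_contra hgt
    have : 24 * r ≤ r ^ 2 := by rw [pow_two]; exact Nat.mul_le_mul_right r (by omega)
    omega
  have hc24 : c ≤ 24 := Nat.le_of_dvd (by omega) hc
  have h6r : 6 ∣ r - 1 := h6.trans hd1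
  interval_cases r <;> first | (norm_num at h9; done) | (norm_num at h6r; done) | skip
  -- only nineteen remains
  have ha : a ≤ 18 := Nat.le_of_dvd (by omega) hd1
  norm_num at hca
  obtain ⟨t, rfl⟩ := h6
  have ht : t ≤ 3 := by omega
  interval_cases t <;> first | omega | (obtain rfl : c = 20 := (by omega); norm_num at hc)

/-- Commutant of a large commutative subgroup. -/
theorem Fpf.commutant_comm (hρ : Fpf ρ) {p f : ℕ} (hp : p.Prime) (hf : 1 ≤ f) (hV : Nat.card V = p ^ f)
    (hM : Nat.card M + 1 = p ^ f) (A : Subgroup M) (c : ℕ) (hA : ∀ x ∈ A, ∀ y ∈ A, x * y = y * x)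
    (hc : Nat.card M = c * Nat.card A) (hc24 : c ∣ 24) (h6 : 6 ∣ Nat.card A) (h9 : 9 ∣ Nat.card M) (u v : M)
    (hu : ∀ a ∈ A, a * u = u * a) (hv : ∀ a ∈ A, a * v = v * a) : u * v = v * u := by
  have hM' : Nat.card M = p ^ f - 1 := by omega
  have hnt : Nontrivial V := by
    rw [← Finite.one_lt_card_iff_nontrivial, hV]
    exact Nat.one_lt_pow (by omega) hp.one_lt
  obtain ⟨w, hw⟩ := exists_ne (0 : V)
  have hsp := hρ.span_eq_top A hp hV
    (fun g hg hg1 => no_small_exception hp.two_le hc24 h6 (hc ▸ hM') (hM' ▸ h9) hg hg1) hw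
  obtain ⟨r, hr, hrw⟩ := exists_ring_of_span hsp (ρ u w)
  have hu' : ∀ a : A, ρ u * ρ a = ρ a * ρ u := fun a => by rw [← map_mul, ← map_mul, hu a a.2]
  have hv' : ∀ a : A, ρ v * ρ a = ρ a * ρ v := fun a => by rw [← map_mul, ← map_mul, hv a a.2]
  have hru : ρ u = r := eq_of_span hsp hu' (fun a => commute_of_mem A hA hr a.2) hrw.symm
  apply hρ.inj hw
  rw [map_mul, map_mul, hru, ring_commute A hv' hr]

/-- Odd exponent: a commutative subgroup of index two forces commutativity. -/
theorem Fpf.comm_of_odd (hρ : Fpf ρ) {p f : ℕ} (hp : p.Prime) (hf : Odd f) (hV : Nat.card V = p ^ f)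
    (hM : Nat.card M + 1 = p ^ f) (N : Subgroup M) (hN : N.index = 2)
    (hNc : ∀ x ∈ N, ∀ y ∈ N, x * y = y * x) : ∀ x y : M, x * y = y * x := by
  classical
  haveI : Fact p.Prime := ⟨hp⟩
  have hcard : 2 * Nat.card N = p ^ f - 1 := by
    have := N.index_mul_card
    rw [hN] at this
    omega
  have hmin : ∀ g, g < f → 1 ≤ g → ¬ Nat.card N ∣ p ^ g - 1 := by
    intro g hg hg1 hd
    have hd1 : Nat.card N ∣ p ^ Nat.gcd f g - 1 := by
      rw [← Nat.pow_sub_one_gcd_pow_sub_one]
      exact Nat.dvd_gcd (Dvd.intro_left 2 hcard) hd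
    obtain ⟨e, he⟩ := Nat.gcd_dvd_left f g
    have hd0 : 1 ≤ Nat.gcd f g := Nat.gcd_pos_of_pos_right f hg1
    have hdg : Nat.gcd f g ≤ g := Nat.le_of_dvd hg1 (Nat.gcd_dvd_right f g)
    generalize Nat.gcd f g = d at *
    subst he
    have he3 : 3 ≤ e := by
      obtain ⟨t, ht⟩ := (Nat.odd_mul.1 hf).2
      rcases Nat.eq_zero_or_pos t with rfl | htp
      · rw [show e = 1 by omega, mul_one] at hg; omega
      · omega
    rw [pow_mul] at hcard
    have hr2 : 2 ≤ p ^ d := le_trans hp.two_le (Nat.le_self_pow (by omega) p)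
    have h1 := Nat.le_of_dvd (by omega) hd1
    have h3 : (p ^ d) ^ 3 ≤ (p ^ d) ^ e := Nat.pow_le_pow_right (by omega) he3
    have h4 : p ^ d * 4 ≤ (p ^ d) ^ 3 := by
      rw [pow_succ' (p ^ d) 2]
      exact Nat.mul_le_mul_left _ (by simpa using Nat.pow_le_pow_left hr2 2)
    omega
  have hnt : Nontrivial V := by
    rw [← Finite.one_lt_card_iff_nontrivial, hV]
    exact Nat.one_lt_pow hf.pos.ne' hp.one_lt
  obtain ⟨w, hw⟩ := exists_ne (0 : V)
  have hsp : ∀ u : V, u ≠ 0 → AddSubgroup.closure (Set.range fun a : N => ρ a u) = ⊤ :=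
    fun u hu => hρ.span_eq_top N hp hV hmin hu
  set R := ring ρ N with hR
  have hRcomm : ∀ r ∈ R, ∀ t ∈ R, r * t = t * r := fun r hr t ht =>
    ring_commute N (fun a => commute_of_mem N hNc hr a.2) ht
  have hev : Function.Bijective (fun r : R => (r : AddMonoid.End V) w) := by
    refine ⟨fun r t h => Subtype.ext ?_, fun u => ?_⟩
    · exact eq_of_span (hsp w hw) (fun a => commute_of_mem N hNc r.2 a.2)
        (fun a => commute_of_mem N hNc t.2 a.2) h
    · obtain ⟨r, hr, hru⟩ := exists_ring_of_span (hsp w hw) u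
      exact ⟨⟨r, hr⟩, hru⟩
  haveI : Finite R := Finite.of_injective _ hev.1
  letI : CommRing R := { (inferInstance : Ring R) with
    mul_comm := fun r t => Subtype.ext (hRcomm r r.2 t t.2) }
  haveI : Nontrivial R := by
    obtain ⟨r, hr⟩ := hev.2 w
    refine ⟨⟨0, r, fun h => hw ?_⟩⟩
    rw [← hr, ← h]; rfl
  haveI : NoZeroDivisors R := by
    refine ⟨fun {r t} hrt => ?_⟩
    by_contra hc
    push Not at hc
    have ht0 : (t : AddMonoid.End V) w ≠ 0 := fun h => hc.2 (hev.1 (h.trans rfl))
    apply hc.1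
    apply Subtype.ext
    refine eq_of_span (hsp _ ht0) (fun a => commute_of_mem N hNc r.2 a.2) (fun a => by simp) ?_
    exact congrArg (fun x : R => (x : AddMonoid.End V) w) hrt
  haveI : IsDomain R := NoZeroDivisors.to_isDomain R
  letI : Field R := (Finite.isField_of_domain R).toField
  have hRcard : Nat.card R = p ^ f := (Nat.card_congr (Equiv.ofBijective _ hev)).trans hV
  haveI hchar : CharP R p := by
    haveI := Fintype.ofFinite R
    obtain ⟨q, hq⟩ := CharP.exists R
    haveI := hq
    obtain ⟨n, hn1, hn2⟩ := FiniteField.card R q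
    rw [← Nat.card_eq_fintype_card, hRcard] at hn2
    have : q = p := (Nat.prime_dvd_prime_iff_eq hn1 hp).1
      (hn1.dvd_of_dvd_pow (hn2 ▸ dvd_pow_self _ n.ne_zero))
    exact this ▸ hq
  -- an element outside
  have hNn : N.Normal := Subgroup.normal_of_index_eq_two hN
  suffices hall : ∀ m : M, ∀ a ∈ N, m * a = a * m by
    intro x y
    by_cases hx : x ∈ N
    · exact (hall y x hx).symm
    by_cases hy : y ∈ N
    · exact hall x y hy
    have hz : y * x⁻¹ ∈ N := by
      rw [Subgroup.mul_mem_iff_of_index_two hN, inv_mem_iff]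
      exact iff_of_false hy hx
    calc x * y = x * (y * x⁻¹) * x := by group
      _ = y * x⁻¹ * x * x := by rw [hall x _ hz]
      _ = y * x := by group
  intro m a ha
  have hconj : ∀ r ∈ R, ρ m * r * ρ m⁻¹ ∈ R := by
    intro r hr
    induction hr using Subring.closure_induction with
    | mem x hx =>
      obtain ⟨b, rfl⟩ := hx
      rw [← map_mul, ← map_mul]
      exact mem_ring N (hNn.conj_mem b b.2 m)
    | zero => simp [R.zero_mem]
    | one => rw [mul_one, ← map_mul, mul_inv_cancel, map_one]; exact R.one_mem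
    | add x y _ _ hx hy => rw [mul_add, add_mul]; exact R.add_mem hx hy
    | neg x _ hx => rw [mul_neg, neg_mul]; exact R.neg_mem hx
    | mul x y _ _ hx hy =>
      have e : ρ m⁻¹ * ρ m = 1 := by rw [← map_mul, inv_mul_cancel, map_one]
      have : ρ m * (x * y) * ρ m⁻¹ = (ρ m * x * ρ m⁻¹) * (ρ m * y * ρ m⁻¹) := by
        calc ρ m * (x * y) * ρ m⁻¹ = ρ m * x * 1 * y * ρ m⁻¹ := by simp [mul_assoc]
          _ = _ := by rw [← e]; simp [mul_assoc]
      rw [this]
      exact R.mul_mem hx hy
  let τ : R →+* R :=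
    { toFun := fun r => ⟨ρ m * (r : AddMonoid.End V) * ρ m⁻¹, hconj r r.2⟩
      map_one' := Subtype.ext (by
        show ρ m * 1 * ρ m⁻¹ = 1
        rw [mul_one, ← map_mul, mul_inv_cancel, map_one])
      map_mul' := fun r t => Subtype.ext (by
        show ρ m * ((r : AddMonoid.End V) * t) * ρ m⁻¹ = ρ m * r * ρ m⁻¹ * (ρ m * t * ρ m⁻¹)
        have e : ρ m⁻¹ * ρ m = 1 := by rw [← map_mul, inv_mul_cancel, map_one]
        calc ρ m * ((r : AddMonoid.End V) * t) * ρ m⁻¹ = ρ m * r * 1 * t * ρ m⁻¹ := by simp [mul_assoc]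
          _ = _ := by rw [← e]; simp [mul_assoc])
      map_zero' := Subtype.ext (by
        show ρ m * 0 * ρ m⁻¹ = 0
        simp)
      map_add' := fun r t => Subtype.ext (by
        show ρ m * ((r : AddMonoid.End V) + t) * ρ m⁻¹ = ρ m * r * ρ m⁻¹ + ρ m * t * ρ m⁻¹
        rw [mul_add, add_mul]) }
  have hm2 : m * m ∈ N := Subgroup.mul_self_mem_of_index_two hN m
  have hττ : ∀ r, τ (τ r) = r := fun r => Subtype.ext (by
    show ρ m * (ρ m * (r : AddMonoid.End V) * ρ m⁻¹) * ρ m⁻¹ = r
    have e : ρ (m * m) * ρ (m * m)⁻¹ = 1 := by rw [← map_mul, mul_inv_cancel, map_one]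
    calc ρ m * (ρ m * (r : AddMonoid.End V) * ρ m⁻¹) * ρ m⁻¹
        = ρ (m * m) * r * ρ (m * m)⁻¹ := by rw [mul_inv_rev, map_mul, map_mul]; simp [mul_assoc]
      _ = r * (ρ (m * m) * ρ (m * m)⁻¹) := by rw [← commute_of_mem N hNc r.2 hm2, mul_assoc]
      _ = r := by rw [e, mul_one])
  letI : Algebra (ZMod p) R := ZMod.algebra R p
  let τa : R ≃ₐ[ZMod p] R :=
    { toFun := τ
      invFun := τ
      left_inv := hττ
      right_inv := hττ
      map_mul' := τ.map_mul
      map_add' := τ.map_add
      commutes' := fun k => by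
        show τ (algebraMap (ZMod p) R k) = algebraMap (ZMod p) R k
        exact congrArg (fun g : ZMod p →+* R => g k)
          (Subsingleton.elim (τ.comp (algebraMap (ZMod p) R)) (algebraMap (ZMod p) R)) }
  haveI : Fintype R := Fintype.ofFinite R
  have hfin : Module.finrank (ZMod p) R = f := by
    have h1 := Module.natCard_eq_pow_finrank (K := ZMod p) (V := R)
    rw [hRcard, Nat.card_zmod] at h1
    exact (Nat.pow_right_injective hp.two_le h1).symm
  have hτ1 : τa = 1 := by
    rw [← orderOf_eq_one_iff]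
    refine Nat.eq_one_of_dvd_coprimes (Nat.coprime_two_left.2 hf) (orderOf_dvd_of_pow_eq_one ?_) ?_
    · apply AlgEquiv.ext
      intro r
      rw [pow_two]
      exact hττ r
    · rw [← hfin, ← IsGalois.card_aut_eq_finrank (ZMod p) R]
      exact orderOf_dvd_natCard τa
  have key : ρ m * ρ a * ρ m⁻¹ = ρ a :=
    congrArg Subtype.val (DFunLike.congr_fun hτ1 (⟨ρ a, mem_ring N ha⟩ : R))
  have hma : m * a * m⁻¹ = a := hρ.inj hw (by rw [map_mul, map_mul, key])
  calc m * a = m * a * m⁻¹ * m := by group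
    _ = a * m := by rw [hma]

end Linear

open MulAction

variable {G α : Type*} [Group G] [MulAction G α] [Finite G] [Fintype α] [DecidableEq α]

/-- The two-point stabiliser acting on the kernel, and its commutative subgroup of index two. -/
theorem IsS3.exists_index_two (h : IsS3 G α) (hev : Even (Fintype.card α)) (hn : 3 ≤ Fintype.card α)
    {a b c : α} (hab : a ≠ b) (hac : a ≠ c) (hbc : b ≠ c) {s : G} (hsa : s • a = b) (hsb : s • b = a)
    (hsc : s • c = c) :
    ∃ N : Subgroup ↥(stabilizer G a ⊓ stabilizer G b), N.index = 2 ∧ (∀ x ∈ N, ∀ y ∈ N, x * y = y * x) ∧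
      (∀ n ∈ N, ∃ n' ∈ N, (n' : G) = s * n * s⁻¹) ∧
      ∃ p f : ℕ, p.Prime ∧ Fintype.card α = p ^ f + 1 ∧
        (Odd f → ∀ x y : ↥(stabilizer G a ⊓ stabilizer G b), x * y = y * x) := by
  classical
  set M := stabilizer G a ⊓ stabilizer G b with hMdef
  have hsinv : s⁻¹ = s := inv_eq_of_mul_eq_one_left (h.swap_sq hab hac hbc hsa hsb hsc)
  have hs1 : s ≠ 1 := fun e => hab (by rw [e, one_smul] at hsa; exact hsa)
  have hmem : ∀ g : G, g ∈ M ↔ g • a = a ∧ g • b = b := fun g => Iff.rfl
  have hconj : ∀ g ∈ M, s * g * s⁻¹ ∈ M := by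
    intro g hg
    rw [hmem] at hg ⊢
    simp only [mul_smul, hsinv, hsa, hsb, hg.1, hg.2, and_self]
  have hss : ∀ g : G, s * (s * g * s⁻¹) * s⁻¹ = g := fun g => by
    have e := h.swap_sq hab hac hbc hsa hsb hsc
    rw [hsinv]
    calc s * (s * g * s) * s = (s * s) * g * (s * s) := by group
      _ = g := by rw [e]; group
  let σ : MulAut M :=
    { toFun := fun g => ⟨s * g * s⁻¹, hconj _ g.2⟩
      invFun := fun g => ⟨s * g * s⁻¹, hconj _ g.2⟩
      left_inv := fun g => Subtype.ext (hss _)
      right_inv := fun g => Subtype.ext (hss _)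
      map_mul' := fun g g' => Subtype.ext (show s * ((g : G) * g') * s⁻¹ = s * g * s⁻¹ * (s * g' * s⁻¹) by group) }
  obtain ⟨z, ⟨hz2, hza, hzb⟩, hzu⟩ := h.existsUnique_involution hev hn hab
  have hzM : z ∈ M := ⟨hza, hzb⟩
  have huniq : ∀ x : M, orderOf x = 2 → x = ⟨z, hzM⟩ := fun x hx =>
    Subtype.ext (hzu _ ⟨by rw [Subgroup.orderOf_coe]; exact hx, x.2.1, x.2.2⟩)
  have hzs : σ ⟨z, hzM⟩ = ⟨z, hzM⟩ := huniq _ (by rw [MulEquiv.orderOf_eq, ← Subgroup.orderOf_coe]; exact hz2)
  have hS : Sit σ (⟨z, hzM⟩ : M) :=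
    { invol := by rw [← Subgroup.orderOf_coe]; exact hz2
      uniq := huniq
      sq := fun g => Subtype.ext (hss _)
      fixed := by
        intro x hx
        by_contra hc
        push Not at hc
        have hfix : ∀ g : M, σ g = g → s • (g : G) • c = (g : G) • c := by
          intro g hg
          have e : s * (g : G) * s⁻¹ = g := congrArg Subtype.val hg
          rw [← mul_smul, mul_inv_eq_iff_eq_mul.1 e, mul_smul, hsc]
        have hinj : ∀ g g' : M, (g : G) • c = (g' : G) • c → g = g' := fun g g' e =>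
          Subtype.ext (h.eq_of_three hab hac hbc (g.2.1.trans g'.2.1.symm) (g.2.2.trans g'.2.2.symm) e)
        refine absurd (h.fix_card_le hs1) (not_le.2 (Finset.two_lt_card_iff.2
          ⟨((1 : M) : G) • c, ((⟨z, hzM⟩ : M) : G) • c, (x : G) • c, ?_, ?_, ?_, ?_, ?_, ?_⟩))
        · simp [hsc]
        · simp [hfix _ hzs]
        · simp [hfix _ hx]
        · intro e
          have := congrArg Subtype.val (hinj _ _ e)
          simp only [Subgroup.coe_one] at this
          rw [← this, orderOf_one] at hz2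
          omega
        · exact fun e => hc.1 (hinj _ _ e).symm
        · exact fun e => hc.2 (hinj _ _ e).symm
      three := by
        intro x y hx hy
        haveI := Fintype.ofFinite G
        have hcard := h.order_three_card hn hab (t0 := (x : G)) (by rw [Subgroup.orderOf_coe]; exact hx) x.2.1 x.2.2
        have hx3 : x * x ≠ 1 := fun e => by
          have := orderOf_dvd_of_pow_eq_one (show x ^ 2 = 1 by rw [pow_two]; exact e)
          rw [hx] at this
          omega
        have hsub : ({(x : G), ((x⁻¹ : M) : G)} : Finset G) =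
            Finset.univ.filter (fun t : G => orderOf t = 3 ∧ t • a = a ∧ t • b = b) := by
          refine Finset.eq_of_subset_of_card_le ?_ ?_
          · intro t ht
            simp only [Finset.mem_insert, Finset.mem_singleton] at ht
            rcases ht with rfl | rfl
            · exact Finset.mem_filter.2 ⟨Finset.mem_univ _, by rw [Subgroup.orderOf_coe]; exact hx, x.2.1, x.2.2⟩
            · exact Finset.mem_filter.2 ⟨Finset.mem_univ _, by rw [Subgroup.orderOf_coe, orderOf_inv]; exact hx,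
                (x⁻¹).2.1, (x⁻¹).2.2⟩
          · rw [hcard, Finset.card_pair]
            intro e
            have e' : x = x⁻¹ := Subtype.ext e
            exact hx3 (mul_eq_one_iff_eq_inv.2 e')
        have hy' : (y : G) ∈ ({(x : G), ((x⁻¹ : M) : G)} : Finset G) := by
          rw [hsub]
          exact Finset.mem_filter.2 ⟨Finset.mem_univ _, by rw [Subgroup.orderOf_coe]; exact hy, y.2.1, y.2.2⟩
        simp only [Finset.mem_insert, Finset.mem_singleton] at hy'
        rcases hy' with e | e <;> rw [Subtype.ext e]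
        · exact Subgroup.mem_zpowers x
        · exact inv_mem (Subgroup.mem_zpowers x) }
  obtain ⟨K, p, f, hKn, hp, hf, hαc, hKc, hKcomm, hKel, hKreg, hKfree⟩ := h.exists_kernel hn a
  letI : CommGroup K := { (inferInstance : Group K) with mul_comm := fun x y => hKcomm.is_comm.comm x y }
  let ι : M →* stabilizer G a := Subgroup.inclusion inf_le_left
  haveI := hKn
  let ρ : M →* AddMonoid.End (Additive K) :=
    { toFun := fun m => MonoidHom.toAdditive (MulAut.conjNormal (ι m) : MulAut K).toMonoidHom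
      map_one' := by
        apply AddMonoidHom.ext
        intro k
        show Additive.ofMul ((MulAut.conjNormal (ι 1) : MulAut K) (Additive.toMul k)) = k
        rw [map_one, map_one]
        rfl
      map_mul' := fun m m' => by
        apply AddMonoidHom.ext
        intro k
        show Additive.ofMul ((MulAut.conjNormal (ι (m * m')) : MulAut K) (Additive.toMul k)) = _
        rw [map_mul, map_mul]
        rfl }
  have hρ : Fpf ρ := by
    intro m v hv
    by_contra hc
    push Not at hc
    obtain ⟨k, rfl⟩ := Additive.ofMul.surjective v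
    have e : ((MulAut.conjNormal (ι m) k : K) : stabilizer G a) = (k : stabilizer G a) :=
      congrArg (fun t : Additive K => ((Additive.toMul t : K) : stabilizer G a)) hv
    rw [MulAut.conjNormal_apply] at e
    have e' : (m : G) * ((k : stabilizer G a) : G) = ((k : stabilizer G a) : G) * (m : G) :=
      congrArg (fun t : stabilizer G a => (t : G)) (mul_inv_eq_iff_eq_mul.1 e)
    have hk1 : k ≠ 1 := fun e1 => hc.2 (by rw [e1]; rfl)
    have hkb : ((k : stabilizer G a) : G) • b ≠ b := fun e1 =>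
      hk1 (Subtype.ext (hKfree _ k.2 b hab.symm e1))
    have hka : ((k : stabilizer G a) : G) • b ≠ a := fun e1 =>
      hab.symm (MulAction.injective ((k : stabilizer G a) : G) (e1.trans ((k : stabilizer G a).2).symm))
    refine hc.1 (Subtype.ext (h.eq_one hab hka.symm hkb.symm m.2.1 m.2.2 ?_))
    rw [← mul_smul, e', mul_smul, m.2.2]
  have hV : Nat.card (Additive K) = p ^ f := hKc
  have hMcard : Nat.card M + 1 = p ^ f := by
    have := h.card_pair_stabilizer hab hn
    rw [hαc, ← hMdef] at this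
    omega
  obtain ⟨N, hN, hNc, hNinv⟩ := hS.main fun A cc hA hc hc24 h6 h9 u v hu hv =>
    hρ.commutant_comm hp hf hV hMcard A cc hA hc hc24 h6 h9 u v hu hv
  exact ⟨N, hN, hNc, fun n hn => ⟨σ n, hNinv n hn, rfl⟩, p, f, hp, hαc,
    fun hfo => hρ.comm_of_odd hp hfo hV hMcard N hN hNc⟩

end CfsgLib.SharpThree
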