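import Cfsg.Agent.Lib.SharpThree.Basic
import Mathlib.Topology.Compactification.OnePoint.ProjectiveLine
import Mathlib.LinearAlgebra.Matrix.GeneralLinearGroup.Projective
import Mathlib.LinearAlgebra.Matrix.GeneralLinearGroup.FinTwo

/-!
A sharply three-transitive group containing the translations, the scalings and the inversion of a
coordinatisation by a field is the projective general linear group of that field.
-/

set_option autoImplicit false

namespace CfsgLib.SharpThree

open MulAction OnePoint Matrix
open scoped MatrixGroups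

variable {G α : Type*} [Group G] [MulAction G α] {F : Type*} [Field F]

/-- The matrix of a translation. -/
def transMat (v : F) : GL (Fin 2) F :=
  GeneralLinearGroup.mkOfDetNeZero !![1, v; 0, 1] (by simp [det_fin_two])

/-- The matrix of a scaling. -/
def scaleMat (u : F) (hu : u ≠ 0) : GL (Fin 2) F :=
  GeneralLinearGroup.mkOfDetNeZero !![u, 0; 0, 1] (by simp [det_fin_two, hu])

/-- The matrix of the inversion. -/
def invMat : GL (Fin 2) F :=
  GeneralLinearGroup.mkOfDetNeZero !![0, 1; 1, 0] (by simp [det_fin_two])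

theorem transMat_val (v : F) : (transMat v : Matrix (Fin 2) (Fin 2) F) = !![1, v; 0, 1] := rfl

theorem scaleMat_val (u : F) (hu : u ≠ 0) : (scaleMat u hu : Matrix (Fin 2) (Fin 2) F) = !![u, 0; 0, 1] := rfl

theorem invMat_val : ((invMat : GL (Fin 2) F) : Matrix (Fin 2) (Fin 2) F) = !![0, 1; 1, 0] := rfl

variable [DecidableEq F]

theorem transMat_smul (v x : F) : transMat v • (x : OnePoint F) = ((x + v : F) : OnePoint F) := by
  simp [smul_some_eq_ite, transMat_val]

theorem transMat_smul_infty (v : F) : transMat v • (∞ : OnePoint F) = ∞ := by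
  simp [smul_infty_eq_self_iff, transMat_val]

theorem scaleMat_smul (u x : F) (hu : u ≠ 0) : scaleMat u hu • (x : OnePoint F) = ((u * x : F) : OnePoint F) := by
  simp [smul_some_eq_ite, scaleMat_val]

theorem scaleMat_smul_infty (u : F) (hu : u ≠ 0) : scaleMat u hu • (∞ : OnePoint F) = ∞ := by
  simp [smul_infty_eq_self_iff, scaleMat_val]

theorem invMat_smul (x : F) (hx : x ≠ 0) : (invMat : GL (Fin 2) F) • (x : OnePoint F) = ((x⁻¹ : F) : OnePoint F) := by
  simp [smul_some_eq_ite, invMat_val, hx]

theorem invMat_smul_zero : (invMat : GL (Fin 2) F) • ((0 : F) : OnePoint F) = ∞ := by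
  simp [smul_some_eq_ite, invMat_val]

theorem invMat_smul_infty : (invMat : GL (Fin 2) F) • (∞ : OnePoint F) = ((0 : F) : OnePoint F) := by
  simp [smul_infty_eq_ite, invMat_val]

/-- Recognition of `PGL₂(F)`. -/
theorem mulEquiv_pgl (h : IsS3 G α) (e : OnePoint F ≃ α)
    (htr : ∀ v : F, ∃ g : G, ∀ x, g • e x = e (transMat v • x))
    (hsc : ∀ (u : F) (hu : u ≠ 0), ∃ g : G, ∀ x, g • e x = e (scaleMat u hu • x))
    (hinv : ∃ g : G, ∀ x, g • e x = e ((invMat : GL (Fin 2) F) • x)) :
    Nonempty (G ≃* Matrix.ProjGenLinGroup (Fin 2) F) := by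
  let L : Subgroup (GL (Fin 2) F) :=
    { carrier := {A | ∃ g : G, ∀ x, g • e x = e (A • x)}
      one_mem' := ⟨1, fun x => by simp⟩
      mul_mem' := by
        rintro A B ⟨g, hg⟩ ⟨k, hk⟩
        exact ⟨g * k, fun x => by rw [mul_smul, hk, hg, mul_smul]⟩
      inv_mem' := by
        rintro A ⟨g, hg⟩
        exact ⟨g⁻¹, fun x => by rw [inv_smul_eq_iff, hg, smul_inv_smul]⟩ }
  have hT : ∀ v, transMat v ∈ L := htr
  have hS : ∀ (u : F) (hu : u ≠ 0), scaleMat u hu ∈ L := hsc
  have hI : (invMat : GL (Fin 2) F) ∈ L := hinv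
  have htri : ∀ A : GL (Fin 2) F, A • (∞ : OnePoint F) = ∞ → A ∈ L := by
    intro A hA
    rw [smul_infty_eq_self_iff] at hA
    have hdet : A 0 0 * A 1 1 ≠ 0 := by
      have := A.det_ne_zero
      rwa [det_fin_two, hA, mul_zero, sub_zero] at this
    obtain ⟨ha, hd⟩ := mul_ne_zero_iff.1 hdet
    obtain ⟨g, hg⟩ := L.mul_mem (hT (A 0 1 / A 1 1)) (hS (A 0 0 / A 1 1) (div_ne_zero ha hd))
    refine ⟨g, fun x => (hg x).trans (congrArg e ?_)⟩
    rw [mul_smul]
    cases x with
    | infty => rw [scaleMat_smul_infty, transMat_smul_infty, smul_infty_eq_self_iff.2 hA]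
    | coe x =>
      rw [scaleMat_smul, transMat_smul, smul_some_eq_ite, hA, zero_mul, zero_add, if_neg hd, coe_eq_coe]
      field_simp
  have hall : ∀ A : GL (Fin 2) F, A ∈ L := by
    intro A
    cases hA : A • (∞ : OnePoint F) with
    | infty => exact htri A hA
    | coe v =>
      have hm : invMat * transMat (-v) * A ∈ L := htri _ (by
        rw [mul_smul, mul_smul, hA, transMat_smul, add_neg_cancel, invMat_smul_zero])
      have := L.mul_mem (L.inv_mem (L.mul_mem hI (hT (-v)))) hm
      rwa [inv_mul_cancel_left] at this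
  choose Φ hΦ using hall
  have huniq : ∀ {g g' : G}, (∀ x : OnePoint F, g • e x = g' • e x) → g = g' := fun {g g'} hx =>
    h.eq_of_three (a := e ∞) (b := e ((0 : F) : OnePoint F)) (c := e ((1 : F) : OnePoint F))
      (e.injective.ne (infty_ne_coe _)) (e.injective.ne (infty_ne_coe _))
      (e.injective.ne (fun h0 => zero_ne_one (coe_eq_coe.1 h0))) (hx _) (hx _) (hx _)
  let φ : GL (Fin 2) F →* G :=
    { toFun := Φ
      map_one' := huniq fun x => by rw [hΦ, one_smul, one_smul]
      map_mul' := fun A B => huniq fun x => by rw [hΦ, mul_smul (Φ A), hΦ, hΦ, mul_smul] }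
  have hφ : ∀ A x, φ A • e x = e (A • x) := hΦ
  have hpick : ∀ y : α, ∃ A : GL (Fin 2) F, φ A • e ∞ = y := by
    intro y
    obtain ⟨x, rfl⟩ := e.surjective y
    cases x with
    | infty => exact ⟨1, by rw [hφ, one_smul]⟩
    | coe x => exact ⟨transMat x * invMat, by rw [hφ, mul_smul, invMat_smul_infty, transMat_smul, zero_add]⟩
  have hsurj : Function.Surjective φ := by
    suffices hst : ∀ g : G, g • e ∞ = e ∞ → g ∈ φ.range by
      intro g
      obtain ⟨A, hA⟩ := hpick (g • e ∞)
      obtain ⟨B, hB⟩ := hst ((φ A)⁻¹ * g) (by rw [mul_smul, inv_smul_eq_iff, hA])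
      exact ⟨A * B, by rw [map_mul, hB, mul_inv_cancel_left]⟩
    intro g hg
    obtain ⟨y, hy⟩ := e.surjective (g • e ((0 : F) : OnePoint F))
    cases y with
    | infty => exact absurd (MulAction.injective g (hy.symm.trans hg.symm)) (e.injective.ne (coe_ne_infty _))
    | coe v =>
      obtain ⟨z, hz⟩ := e.surjective (g • e ((1 : F) : OnePoint F))
      cases z with
      | infty => exact absurd (MulAction.injective g (hz.symm.trans hg.symm)) (e.injective.ne (coe_ne_infty _))
      | coe w =>
        have hvw : w - v ≠ 0 := by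
          intro h0
          rw [sub_eq_zero] at h0
          subst h0
          exact zero_ne_one (coe_eq_coe.1 (e.injective (MulAction.injective g (hy.symm.trans hz))))
        refine ⟨transMat v * scaleMat (w - v) hvw, ?_⟩
        refine h.eq_of_three (a := e ∞) (b := e ((0 : F) : OnePoint F)) (c := e ((1 : F) : OnePoint F))
          (e.injective.ne (infty_ne_coe _)) (e.injective.ne (infty_ne_coe _))
          (e.injective.ne (fun h0 => zero_ne_one (coe_eq_coe.1 h0))) ?_ ?_ ?_
        · rw [hφ, mul_smul, scaleMat_smul_infty, transMat_smul_infty, hg]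
        · rw [hφ, mul_smul, scaleMat_smul, mul_zero, transMat_smul, zero_add, hy]
        · rw [hφ, mul_smul, scaleMat_smul, mul_one, transMat_smul, sub_add_cancel, hz]
  have hker : φ.ker = Subgroup.center (GL (Fin 2) F) := by
    ext A
    rw [MonoidHom.mem_ker, GeneralLinearGroup.center_eq_range_scalar]
    constructor
    · intro hA
      have hfix : ∀ x : OnePoint F, A • x = x := fun x => e.injective (by rw [← hφ, hA, one_smul])
      have h10 : A 1 0 = 0 := smul_infty_eq_self_iff.1 (hfix ∞)
      have h0 := hfix ((0 : F) : OnePoint F)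
      have h1 := hfix ((1 : F) : OnePoint F)
      have hdet := A.det_ne_zero
      rw [det_fin_two, h10, mul_zero, sub_zero] at hdet
      obtain ⟨ha, hd⟩ := mul_ne_zero_iff.1 hdet
      simp only [smul_some_eq_ite, h10, zero_mul, zero_add, if_neg hd, mul_zero, mul_one, coe_eq_coe,
        div_eq_iff hd, one_mul] at h0 h1
      rw [h0, add_zero] at h1
      refine ⟨Units.mk0 _ ha, ?_⟩
      ext i j
      fin_cases i <;> fin_cases j <;> simp [h0, h10, h1]
    · rintro ⟨u, rfl⟩
      refine huniq fun x => ?_
      rw [hφ, one_smul]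
      congr 1
      cases x with
      | infty => simp [smul_infty_eq_self_iff]
      | coe x => simp [smul_some_eq_ite]
  let iso : Matrix.ProjGenLinGroup (Fin 2) F ≃* G :=
    (QuotientGroup.quotientMulEquivOfEq hker.symm).trans (QuotientGroup.quotientKerEquivOfSurjective φ hsurj)
  exact ⟨iso.symm⟩

end CfsgLib.SharpThree
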