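import Mathlib.GroupTheory.GroupAction.MultipleTransitivity
import Mathlib.GroupTheory.GroupAction.Quotient
import Mathlib.GroupTheory.Perm.Cycle.Type
import Mathlib.Data.Finset.Prod
import Mathlib.Combinatorics.Enumerative.DoubleCounting
import Mathlib.Tactic.Ring

/-!
Finite sharply three-transitive groups: basic counting.

The key counting: every ordered triple determines exactly one element of order three cycling it, and
exactly one involution exchanging the first two and fixing the third.
-/

set_option autoImplicit false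

namespace CfsgLib.SharpThree

open MulAction Finset

variable {G α : Type*} [Group G] [MulAction G α]

/-- Three distinct points as an embedding. -/
def triple {a b c : α} (h1 : a ≠ b) (h2 : a ≠ c) (h3 : b ≠ c) : Fin 3 ↪ α :=
  ⟨![a, b, c], by intro i j h; fin_cases i <;> fin_cases j <;> simp_all⟩

/-- Sharply three-transitive action. -/
structure IsS3 (G α : Type*) [Group G] [MulAction G α] : Prop where
  trans : IsMultiplyPretransitive G α 3
  sharp : ∀ x : Fin 3 ↪ α, stabilizer G x = ⊥

theorem IsS3.eq_of_three (h : IsS3 G α) {g g' : G} {a b c : α} (h1 : a ≠ b) (h2 : a ≠ c) (h3 : b ≠ c)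
    (ha : g • a = g' • a) (hb : g • b = g' • b) (hc : g • c = g' • c) : g = g' := by
  have : g'⁻¹ * g ∈ stabilizer G (triple h1 h2 h3) := by
    rw [mem_stabilizer_iff]
    ext i
    have e : ∀ z : α, g • z = g' • z → (g'⁻¹ * g) • z = z := fun z hz => by
      rw [mul_smul, hz, inv_smul_smul]
    rw [Function.Embedding.smul_apply]
    apply e
    fin_cases i
    exacts [ha, hb, hc]
  rw [h.sharp, Subgroup.mem_bot, inv_mul_eq_one] at this
  exact this.symm

theorem IsS3.eq_one (h : IsS3 G α) {g : G} {a b c : α} (h1 : a ≠ b) (h2 : a ≠ c) (h3 : b ≠ c)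
    (ha : g • a = a) (hb : g • b = b) (hc : g • c = c) : g = 1 :=
  h.eq_of_three h1 h2 h3 (by simpa using ha) (by simpa using hb) (by simpa using hc)

theorem IsS3.exists_three (h : IsS3 G α) {a b c a' b' c' : α} (h1 : a ≠ b) (h2 : a ≠ c) (h3 : b ≠ c)
    (h1' : a' ≠ b') (h2' : a' ≠ c') (h3' : b' ≠ c') :
    ∃ g : G, g • a = a' ∧ g • b = b' ∧ g • c = c' := by
  haveI := h.trans
  obtain ⟨g, hg⟩ := exists_smul_eq G (triple h1 h2 h3) (triple h1' h2' h3')
  exact ⟨g, congrArg (fun e : Fin 3 ↪ α => e 0) hg, congrArg (fun e : Fin 3 ↪ α => e 1) hg,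
    congrArg (fun e : Fin 3 ↪ α => e 2) hg⟩

variable [Fintype α] [DecidableEq α]

theorem exists_third (hn : 3 ≤ Fintype.card α) (a b : α) : ∃ c, c ≠ a ∧ c ≠ b := by
  obtain ⟨c, -, hc⟩ := Finset.exists_mem_notMem_of_card_lt_card
    (show ({a, b} : Finset α).card < (univ : Finset α).card from
      lt_of_le_of_lt Finset.card_le_two (by rw [Finset.card_univ]; omega))
  exact ⟨c, fun e => hc (by simp [e]), fun e => hc (by simp [e])⟩

theorem IsS3.two_trans (h : IsS3 G α) (hn : 3 ≤ Fintype.card α) {a b a' b' : α} (hab : a ≠ b)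
    (hab' : a' ≠ b') : ∃ g : G, g • a = a' ∧ g • b = b' := by
  obtain ⟨c, c1, c2⟩ := exists_third hn a b
  obtain ⟨c', d1, d2⟩ := exists_third hn a' b'
  obtain ⟨g, g1, g2, -⟩ := h.exists_three hab c1.symm c2.symm hab' d1.symm d2.symm
  exact ⟨g, g1, g2⟩

theorem IsS3.fix_subset (h : IsS3 G α) {g : G} (hg : g ≠ 1) {a b : α} (hab : a ≠ b)
    (ha : g • a = a) (hb : g • b = b) {x : α} (hx : g • x = x) : x = a ∨ x = b := by
  by_contra hc
  push Not at hc
  exact hg (h.eq_one hab hc.1.symm hc.2.symm ha hb hx)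

theorem IsS3.fix_card_le (h : IsS3 G α) {g : G} (hg : g ≠ 1) :
    (univ.filter fun x : α => g • x = x).card ≤ 2 := by
  by_contra hc
  push Not at hc
  obtain ⟨a, b, c, ha, hb, hc, h1, h2, h3⟩ := Finset.two_lt_card_iff.1 hc
  simp only [mem_filter, mem_univ, true_and] at ha hb hc
  exact hg (h.eq_one h1 h2 h3 ha hb hc)

/-- The two-point stabiliser is regular on the remaining points. -/
theorem IsS3.card_pair_stabilizer (h : IsS3 G α) {a b : α} (hab : a ≠ b) (hn : 3 ≤ Fintype.card α) :
    Nat.card ↥(stabilizer G a ⊓ stabilizer G b) + 2 = Fintype.card α := by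
  obtain ⟨c, c1, c2⟩ := exists_third hn a b
  have e : Nat.card ↥(stabilizer G a ⊓ stabilizer G b) = Nat.card {x : α // x ≠ a ∧ x ≠ b} := by
    refine Nat.card_congr (Equiv.ofBijective (fun g : ↥(stabilizer G a ⊓ stabilizer G b) =>
      (⟨(g : G) • c, fun e => c1 (MulAction.injective (g : G) (e.trans g.2.1.symm)),
        fun e => c2 (MulAction.injective (g : G) (e.trans g.2.2.symm))⟩ : {x : α // x ≠ a ∧ x ≠ b})) ⟨?_, ?_⟩)
    · intro g g' hgg
      exact Subtype.ext (h.eq_of_three hab c1.symm c2.symm (g.2.1.trans g'.2.1.symm) (g.2.2.trans g'.2.2.symm)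
        (congrArg Subtype.val hgg))
    · intro x
      obtain ⟨g, g1, g2, g3⟩ := h.exists_three hab c1.symm c2.symm hab x.2.1.symm x.2.2.symm
      exact ⟨⟨g, g1, g2⟩, Subtype.ext g3⟩
  rw [e, Nat.card_eq_fintype_card, Fintype.card_subtype]
  have : (univ.filter fun x : α => x ≠ a ∧ x ≠ b) = (univ.erase a).erase b := by
    ext x; simp [and_comm]
  rw [this, card_erase_of_mem (by simp [hab.symm]), card_erase_of_mem (mem_univ a), card_univ]
  omega

/-- The ordered triples of distinct points. -/
def triples (α : Type*) [Fintype α] [DecidableEq α] : Finset ((α × α) × α) :=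
  ((univ : Finset α).offDiag ×ˢ univ).filter fun t => t.2 ≠ t.1.1 ∧ t.2 ≠ t.1.2

theorem mem_triples {t : (α × α) × α} : t ∈ triples α ↔ t.1.1 ≠ t.1.2 ∧ t.2 ≠ t.1.1 ∧ t.2 ≠ t.1.2 := by
  simp [triples]

theorem card_triples : (triples α).card = (univ : Finset α).offDiag.card * (Fintype.card α - 2) := by
  rw [triples, card_filter, sum_product, ← smul_eq_mul, ← Finset.sum_const]
  refine Finset.sum_congr rfl fun p hp => ?_
  rw [← card_filter]
  simp only [mem_offDiag, mem_univ, true_and] at hp
  have : (univ.filter fun x : α => x ≠ p.1 ∧ x ≠ p.2) = (univ.erase p.1).erase p.2 := by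
    ext x; simp [and_comm]
  rw [this, card_erase_of_mem (by simp [Ne.symm hp]), card_erase_of_mem (mem_univ _), card_univ]
  omega

/-- If every ordered triple is related to exactly one element of a conjugation-invariant set of elements with two
fixed points and each of them is related to `e * (n - 2)` triples, each pair is fixed by `2 / e` of them. -/
theorem IsS3.pair_count [Fintype G] (h : IsS3 G α) (hn : 3 ≤ Fintype.card α) (T : Finset G)
    (hT : ∀ g : G, ∀ t ∈ T, g * t * g⁻¹ ∈ T)
    (hfix : ∀ t ∈ T, (univ.filter fun x : α => t • x = x).card = 2)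
    (R : G → (α × α) × α → Prop) [∀ g x, Decidable (R g x)]
    (e : ℕ) (hR1 : ∀ x ∈ triples α, (T.bipartiteBelow R x).card = 1)
    (hR2 : ∀ t ∈ T, ((triples α).bipartiteAbove R t).card = e * (Fintype.card α - 2))
    {a b : α} (hab : a ≠ b) : (T.filter fun t => t • a = a ∧ t • b = b).card * e = 2 := by
  have key := Finset.sum_card_bipartiteAbove_eq_sum_card_bipartiteBelow (r := R) (s := T) (t := triples α)
  rw [sum_const_nat hR2, sum_const_nat hR1, mul_one, card_triples, ← mul_assoc] at key
  have hP : T.card * e = (univ : Finset α).offDiag.card := Nat.eq_of_mul_eq_mul_right (by omega) key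
  have key2 := Finset.sum_card_bipartiteAbove_eq_sum_card_bipartiteBelow
    (r := fun (t : G) (p : α × α) => t • p.1 = p.1 ∧ t • p.2 = p.2) (s := T) (t := (univ : Finset α).offDiag)
  have h1 : ∀ t ∈ T, ((univ : Finset α).offDiag.bipartiteAbove
      (fun (t : G) (p : α × α) => t • p.1 = p.1 ∧ t • p.2 = p.2) t).card = 2 := by
    intro t ht
    have : (univ : Finset α).offDiag.bipartiteAbove (fun (t : G) (p : α × α) => t • p.1 = p.1 ∧ t • p.2 = p.2) t
        = (univ.filter fun x : α => t • x = x).offDiag := by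
      ext p
      simp only [Finset.mem_bipartiteAbove, mem_offDiag, mem_filter, mem_univ, true_and]
      tauto
    rw [this, offDiag_card, hfix t ht]
  have h2 : ∀ p ∈ (univ : Finset α).offDiag,
      (T.bipartiteBelow (fun (t : G) (p : α × α) => t • p.1 = p.1 ∧ t • p.2 = p.2) p).card =
        (T.filter fun t => t • a = a ∧ t • b = b).card := by
    intro p hp
    simp only [mem_offDiag, mem_univ, true_and] at hp
    obtain ⟨g, g1, g2⟩ := h.two_trans hn hab hp
    refine (Finset.card_nbij' (fun t => g * t * g⁻¹) (fun t => g⁻¹ * t * g) ?_ ?_ ?_ ?_).symm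
    · intro t ht
      simp only [Finset.mem_coe, Finset.mem_bipartiteBelow, mem_filter] at ht ⊢
      exact ⟨hT g t ht.1, by rw [← g1, mul_smul, mul_smul, inv_smul_smul, ht.2.1],
        by rw [← g2, mul_smul, mul_smul, inv_smul_smul, ht.2.2]⟩
    · intro t ht
      simp only [Finset.mem_coe, Finset.mem_bipartiteBelow, mem_filter] at ht ⊢
      refine ⟨by simpa using hT g⁻¹ t ht.1, ?_, ?_⟩
      · rw [mul_smul, mul_smul, g1, ht.2.1, inv_smul_eq_iff, g1]
      · rw [mul_smul, mul_smul, g2, ht.2.2, inv_smul_eq_iff, g2]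
    · intro t _; simp [mul_assoc]
    · intro t _; simp [mul_assoc]
  rw [sum_const_nat h1, sum_const_nat h2] at key2
  have hpos : 0 < (univ : Finset α).offDiag.card := Finset.card_pos.2 ⟨(a, b), by simp [hab]⟩
  apply Nat.eq_of_mul_eq_mul_left hpos
  rw [← mul_assoc, ← key2, ← hP]
  ring

theorem fix_mod [Finite G] {p : ℕ} [Fact p.Prime] {t : G} (ht : t ^ p = 1) :
    (univ.filter fun x : α => t • x = x).card % p = Fintype.card α % p := by
  have hσ : (MulAction.toPerm t : Equiv.Perm α) ^ p ^ 1 = 1 := by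
    rw [pow_one]
    show (MulAction.toPermHom G α t) ^ p = 1
    rw [← map_pow, ht, map_one]
  have hm := Equiv.Perm.card_compl_support_modEq (p := p) (n := 1) hσ
  have e : (MulAction.toPerm t : Equiv.Perm α).supportᶜ = univ.filter fun x : α => t • x = x := by
    ext x; simp [Equiv.Perm.mem_support]
  rwa [e] at hm

/-- A two-point stabiliser of a group of odd-plus-one degree has exactly one involution. -/
theorem IsS3.existsUnique_involution [Finite G] (h : IsS3 G α) (hev : Even (Fintype.card α))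
    (hn : 3 ≤ Fintype.card α) {a b : α} (hab : a ≠ b) :
    ∃! t : G, orderOf t = 2 ∧ t • a = a ∧ t • b = b := by
  classical
  haveI := Fintype.ofFinite G
  haveI : Fact (Nat.Prime 2) := ⟨Nat.prime_two⟩
  let T : Finset G := univ.filter fun t => orderOf t = 2 ∧ ∃ x : α, t • x = x
  have hne1 : ∀ t ∈ T, t ≠ 1 := fun t ht e => by
    simp only [T, mem_filter] at ht
    rw [e, orderOf_one] at ht
    omega
  have hsq : ∀ t ∈ T, ∀ x : α, t • t • x = x := fun t ht x => by
    simp only [T, mem_filter] at ht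
    rw [← mul_smul, ← pow_two, ← ht.2.1, pow_orderOf_eq_one, one_smul]
  have hfix : ∀ t ∈ T, (univ.filter fun x : α => t • x = x).card = 2 := by
    intro t ht
    have h2 : t ^ 2 = 1 := by
      simp only [T, mem_filter] at ht
      rw [← ht.2.1, pow_orderOf_eq_one]
    have hle := h.fix_card_le (hne1 t ht)
    have hm := fix_mod (α := α) h2
    have hpos : 0 < (univ.filter fun x : α => t • x = x).card := by
      simp only [T, mem_filter] at ht
      obtain ⟨x, hx⟩ := ht.2.2
      exact card_pos.2 ⟨x, by simp [hx]⟩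
    rw [Nat.even_iff] at hev
    omega
  have hc := h.pair_count hn T ?_ hfix
    (fun t x => t • x.1.1 = x.1.2 ∧ t • x.1.2 = x.1.1 ∧ t • x.2 = x.2) 2 ?_ ?_ hab
  · have hc1 : (T.filter fun t => t • a = a ∧ t • b = b).card = 1 := by omega
    obtain ⟨t, ht⟩ := card_eq_one.1 hc1
    have hm : ∀ u, u ∈ T.filter (fun t => t • a = a ∧ t • b = b) ↔ (orderOf u = 2 ∧ u • a = a ∧ u • b = b) := by
      intro u
      simp only [T, mem_filter, mem_univ, true_and]
      exact ⟨fun h => ⟨h.1.1, h.2⟩, fun h => ⟨⟨h.1, a, h.2.1⟩, h.2⟩⟩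
    refine ⟨t, (hm t).1 (ht ▸ mem_singleton_self t), fun u hu => ?_⟩
    have := (hm u).2 hu
    rwa [ht, mem_singleton] at this
  · intro g t ht
    simp only [T, mem_filter, mem_univ, true_and] at ht ⊢
    obtain ⟨x, hx⟩ := ht.2
    refine ⟨?_, g • x, by rw [mul_smul, mul_smul, inv_smul_smul, hx]⟩
    rw [← ht.1]
    exact orderOf_injective (MulAut.conj g).toMonoidHom (MulAut.conj g).injective t
  · intro x hx
    obtain ⟨n1, n2, n3⟩ := mem_triples.1 hx
    obtain ⟨g, g1, g2, g3⟩ := h.exists_three n1 n2.symm n3.symm n1.symm n3.symm n2.symm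
    have hg2 : g * g = 1 := h.eq_one n1 n2.symm n3.symm (by rw [mul_smul, g1, g2]) (by rw [mul_smul, g2, g1])
      (by rw [mul_smul, g3, g3])
    refine card_eq_one.2 ⟨g, eq_singleton_iff_unique_mem.2 ⟨?_, fun u hu => ?_⟩⟩
    · simp only [Finset.mem_bipartiteBelow, T, mem_filter, mem_univ, true_and]
      exact ⟨⟨orderOf_eq_prime (by rw [pow_two, hg2]) (fun e => n1 (by rw [e, one_smul] at g1; exact g1)), _, g3⟩,
        g1, g2, g3⟩
    · simp only [Finset.mem_bipartiteBelow] at hu
      exact h.eq_of_three n1 n2.symm n3.symm (hu.2.1.trans g1.symm) (hu.2.2.1.trans g2.symm) (hu.2.2.2.trans g3.symm)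
  · intro t ht
    have : (triples α).bipartiteAbove (fun t x => t • x.1.1 = x.1.2 ∧ t • x.1.2 = x.1.1 ∧ t • x.2 = x.2) t
        = ((univ.filter fun x : α => ¬ t • x = x) ×ˢ (univ.filter fun x : α => t • x = x)).image
            (fun p => ((p.1, t • p.1), p.2)) := by
      ext ⟨⟨c, d⟩, x⟩
      simp only [Finset.mem_bipartiteAbove, mem_triples, mem_image, mem_product, mem_filter, mem_univ, true_and,
        Prod.exists, Prod.mk.injEq]
      constructor
      · rintro ⟨⟨n1, -, -⟩, h1, -, h3⟩
        exact ⟨c, x, ⟨fun e => n1 (e.symm.trans h1), h3⟩, ⟨rfl, h1⟩, rfl⟩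
      · rintro ⟨c', x', ⟨hc, hx⟩, ⟨rfl, rfl⟩, rfl⟩
        refine ⟨⟨fun e => hc e.symm, fun e => hc (by rw [← e]; exact hx), fun e => hc ?_⟩, rfl, hsq t ht _, hx⟩
        have hxc : x' = c' := MulAction.injective t (hx.trans e)
        rw [← hxc, hx]
    rw [this, card_image_of_injective _ (fun p q e => by
      simp only [Prod.mk.injEq] at e
      exact Prod.ext e.1.1 e.2), card_product, hfix t ht, mul_comm]
    have := card_filter_add_card_filter_not (s := (univ : Finset α)) (fun x => t • x = x)
    rw [hfix t ht, card_univ] at this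
    congr 1
    omega

/-- At most one subgroup of order three in a two-point stabiliser. -/
theorem IsS3.order_three_card [Fintype G] [DecidableEq G] (h : IsS3 G α) (hn : 3 ≤ Fintype.card α)
    {a b : α} (hab : a ≠ b) {t0 : G} (ht0 : orderOf t0 = 3) (ha : t0 • a = a) (hb : t0 • b = b) :
    (univ.filter fun t : G => orderOf t = 3 ∧ t • a = a ∧ t • b = b).card = 2 := by
  classical
  haveI : Fact (Nat.Prime 3) := ⟨Nat.prime_three⟩
  let T : Finset G := univ.filter fun t => orderOf t = 3
  have hne1 : ∀ t ∈ T, t ≠ 1 := fun t ht e => by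
    simp only [T, mem_filter] at ht
    rw [e, orderOf_one] at ht
    omega
  have hpow : ∀ t ∈ T, t ^ 3 = 1 := fun t ht => by
    simp only [T, mem_filter] at ht
    rw [← ht.2, pow_orderOf_eq_one]
  have hmemT : t0 ∈ T := by simp [T, ht0]
  have hfix0 : (univ.filter fun x : α => t0 • x = x).card = 2 := by
    refine le_antisymm (h.fix_card_le (hne1 t0 hmemT)) ?_
    rw [← card_pair hab]
    refine card_le_card fun x hx => ?_
    simp only [mem_insert, mem_singleton] at hx
    rcases hx with rfl | rfl <;> simp [ha, hb]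
  have hfix : ∀ t ∈ T, (univ.filter fun x : α => t • x = x).card = 2 := by
    intro t ht
    have h0 := fix_mod (α := α) (hpow t0 hmemT)
    have h1 := fix_mod (α := α) (hpow t ht)
    have := h.fix_card_le (hne1 t ht)
    omega
  have hc := h.pair_count hn T ?_ hfix
    (fun t x => t • x.1.1 = x.1.2 ∧ t • x.1.2 = x.2 ∧ t • x.2 = x.1.1) 1 ?_ ?_ hab
  · rw [mul_one] at hc
    rw [← hc]
    congr 1
    ext t
    simp [T]
  · intro g t ht
    simp only [T, mem_filter, mem_univ, true_and] at ht ⊢
    rw [← ht]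
    exact orderOf_injective (MulAut.conj g).toMonoidHom (MulAut.conj g).injective t
  · intro x hx
    obtain ⟨n1, n2, n3⟩ := mem_triples.1 hx
    obtain ⟨g, g1, g2, g3⟩ := h.exists_three n1 n2.symm n3.symm n3.symm n1.symm n2
    have hg3 : g ^ 3 = 1 := by
      refine h.eq_one n1 n2.symm n3.symm ?_ ?_ ?_ <;> simp [pow_succ, mul_smul, g1, g2, g3]
    refine card_eq_one.2 ⟨g, eq_singleton_iff_unique_mem.2 ⟨?_, fun u hu => ?_⟩⟩
    · simp only [Finset.mem_bipartiteBelow, T, mem_filter, mem_univ, true_and]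
      exact ⟨orderOf_eq_prime hg3 (fun e => n1 (by rw [e, one_smul] at g1; exact g1)), g1, g2, g3⟩
    · simp only [Finset.mem_bipartiteBelow] at hu
      exact h.eq_of_three n1 n2.symm n3.symm (hu.2.1.trans g1.symm) (hu.2.2.1.trans g2.symm) (hu.2.2.2.trans g3.symm)
  · intro t ht
    have t3 : ∀ x : α, t • t • t • x = x := fun x => by
      rw [← mul_smul, ← mul_smul, show t * t * t = t ^ 3 by simp [pow_succ, mul_assoc], hpow t ht, one_smul]
    have : (triples α).bipartiteAbove (fun t x => t • x.1.1 = x.1.2 ∧ t • x.1.2 = x.2 ∧ t • x.2 = x.1.1) t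
        = (univ.filter fun x : α => ¬ t • x = x).image (fun c => ((c, t • c), t • t • c)) := by
      ext ⟨⟨c, d⟩, x⟩
      simp only [Finset.mem_bipartiteAbove, mem_triples, mem_image, mem_filter, mem_univ, true_and, Prod.mk.injEq]
      constructor
      · rintro ⟨⟨n1, -, -⟩, h1, h2, -⟩
        exact ⟨c, fun e => n1 (e.symm.trans h1), ⟨rfl, h1⟩, by rw [h1, h2]⟩
      · rintro ⟨c', hc, ⟨rfl, rfl⟩, rfl⟩
        refine ⟨⟨fun e => hc e.symm, fun e => hc ?_, fun e => hc (MulAction.injective t e)⟩, rfl, rfl, t3 _⟩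
        have := congrArg (t • ·) e
        simp only [t3] at this
        exact this.symm
    rw [this, card_image_of_injective _ (fun p q e => by
      simp only [Prod.mk.injEq] at e
      exact e.1.1), one_mul]
    have := card_filter_add_card_filter_not (s := (univ : Finset α)) (fun x => t • x = x)
    rw [hfix t ht, card_univ] at this
    omega

end CfsgLib.SharpThree
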