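import Cfsg.Agent.Lib.InvChar.OneInvolution
import Mathlib.GroupTheory.SpecificGroups.Cyclic
import Mathlib.GroupTheory.GroupAction.ConjAct
import Mathlib.GroupTheory.Index
import Mathlib.Data.Finite.Perm

/-!
Automorphisms of odd order of a 2-group with a single involution.
-/

set_option autoImplicit false

namespace CfsgLib.SharpThree

variable {U : Type*} [Group U] [Finite U]

/-- An odd-order automorphism fixing a commutative subgroup pointwise, of index two, is trivial. -/
theorem aut_eq_one_of_fix_index_two (hU : IsPGroup 2 U) (φ : MulAut U) {r : ℕ} (hr : Odd r)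
    (hφ : φ ^ r = 1) (W : Subgroup U) (hW : W.index = 2) (hfix : ∀ w ∈ W, φ w = w) : φ = 1 := by
  apply MulEquiv.ext
  intro x
  rw [MulAut.one_apply]
  by_cases hx : x ∈ W
  · exact hfix x hx
  have hφx : φ x ∉ W := fun hm => hx (by
    have e : φ (φ x) = φ x := hfix _ hm
    rw [φ.injective e] at hm
    exact hm)
  have hw : x⁻¹ * φ x ∈ W := by
    rw [Subgroup.mul_mem_iff_of_index_two hW, inv_mem_iff]
    exact iff_of_false hx hφx
  have hpow : ∀ j : ℕ, (φ ^ j) x = x * (x⁻¹ * φ x) ^ j := by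
    intro j
    induction j with
    | zero => simp
    | succ j ih =>
      rw [pow_succ', MulAut.mul_apply, ih, map_mul, map_pow, hfix _ hw, pow_succ', ← mul_assoc x, mul_inv_cancel_left]
  have h1 : (x⁻¹ * φ x) ^ r = 1 := by
    have := hpow r
    rw [hφ, MulAut.one_apply] at this
    exact mul_left_cancel (a := x) (this.symm.trans (mul_one x).symm)
  obtain ⟨k, hk⟩ := hU (x⁻¹ * φ x)
  have h2 : x⁻¹ * φ x = 1 := by
    rw [← orderOf_eq_one_iff]
    refine Nat.eq_one_of_dvd_coprimes ?_ (orderOf_dvd_of_pow_eq_one hk) (orderOf_dvd_of_pow_eq_one h1)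
    exact Nat.Coprime.pow_left k (Nat.coprime_two_left.2 hr)
  exact (inv_mul_eq_one.1 h2).symm

/-- An odd-order automorphism of a cyclic 2-group is trivial. -/
theorem aut_eq_one_of_cyclic (hU : IsPGroup 2 U) [IsCyclic U] (φ : MulAut U) {r : ℕ} (hr : Odd r)
    (hφ : φ ^ r = 1) : φ = 1 := by
  haveI : Fact (Nat.Prime 2) := ⟨Nat.prime_two⟩
  rw [← orderOf_eq_one_iff]
  have h1 : orderOf φ ∣ Nat.card (MulAut U) := orderOf_dvd_natCard φ
  rw [IsCyclic.card_mulAut] at h1
  obtain ⟨k, hk⟩ := IsPGroup.iff_card.1 hU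
  rw [hk] at h1
  refine Nat.eq_one_of_dvd_coprimes ?_ h1 (orderOf_dvd_of_pow_eq_one hφ)
  rcases Nat.eq_zero_or_pos k with rfl | hk0
  · simp
  · rw [Nat.totient_prime_pow Nat.prime_two hk0]
    simp only [Nat.add_one_sub_one, mul_one]
    exact Nat.Coprime.pow_left _ (Nat.coprime_two_left.2 hr)

/-- An odd-order automorphism stabilising a cyclic subgroup of index two is trivial. -/
theorem aut_eq_one_of_map (hU : IsPGroup 2 U) (φ : MulAut U) {r : ℕ} (hr : Odd r)
    (hφ : φ ^ r = 1) (W : Subgroup U) (hW : W.index = 2) [IsCyclic W]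
    (hmap : W.map φ.toMonoidHom = W) : φ = 1 := by
  refine aut_eq_one_of_fix_index_two hU φ hr hφ W hW fun w hw => ?_
  let ψ : MulAut W := (φ.subgroupMap W).trans (MulEquiv.subgroupCongr hmap)
  have hψ : ∀ (j : ℕ) (x : W), (((ψ ^ j) x : W) : U) = (φ ^ j) (x : U) := by
    intro j
    induction j with
    | zero => intro x; simp
    | succ j ih =>
      intro x
      rw [pow_succ', pow_succ', MulAut.mul_apply, MulAut.mul_apply, ← ih x]
      rfl
  have h1 : ψ ^ r = 1 := MulEquiv.ext fun x => Subtype.ext (by rw [hψ, hφ]; rfl)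
  have h2 := aut_eq_one_of_cyclic (hU.to_subgroup W) ψ hr h1
  have h3 : ((ψ ⟨w, hw⟩ : W) : U) = w := by rw [h2]; rfl
  exact h3

/-- A 2-group with a single involution is cyclic or has a cyclic subgroup of index two and is not commutative. -/
theorem cyclic_or_exists (hU : IsPGroup 2 U) (huniq : ∃! x : U, orderOf x = 2) :
    IsCyclic U ∨ (¬ IsMulCommutative U ∧ ∃ W : Subgroup U, W.index = 2 ∧ IsCyclic W) := by
  by_cases hc : IsMulCommutative U
  · left
    haveI : IsMulCommutative (⊤ : Subgroup U) := ⟨⟨fun x y => Subtype.ext (hc.is_comm.comm (x : U) y)⟩⟩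
    obtain ⟨g, hg⟩ := CfsgLib.InvChar.exists_zpowers_eq_of_commutative hU huniq ⊤ inferInstance
    exact ⟨g, fun x => by
      have hm : x ∈ Subgroup.zpowers g := by
        first
          | exact hg.symm ▸ Subgroup.mem_top x
          | exact hg ▸ Subgroup.mem_top x
      exact hm⟩
  · right
    obtain ⟨k, a, -, -, hidx, -⟩ := CfsgLib.InvChar.exists_cyclic_index_two_of_unique_involution hU hc huniq
    exact ⟨hc, _, hidx, inferInstance⟩

/-- A noncommutative group with two commutative subgroups of index two: its centre has index at most four and lies in both. -/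
theorem center_index_le (hnc : ¬ IsMulCommutative U) (W W' : Subgroup U) (hW : W.index = 2) (hW'2 : W'.index = 2)
    (hWcomm : ∀ x ∈ W, ∀ y ∈ W, x * y = y * x) (hW'comm : ∀ x ∈ W', ∀ y ∈ W', x * y = y * x) (hne' : W' ≠ W) :
    (Subgroup.center U).index ≤ 4 ∧ Subgroup.center U ≤ W := by
  -- the intersection is central, so the quotient by the centre has at most four elements
  have htop : W ⊔ W' = ⊤ := by
    by_contra hne
    apply hne'
    have h1 : W ⊔ W' = W := by
      rcases (Nat.dvd_prime Nat.prime_two).1 (hW ▸ Subgroup.index_dvd_of_le (le_sup_left : W ≤ W ⊔ W')) with h | h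
      · exact absurd (Subgroup.index_eq_one.1 h) hne
      · exact (Subgroup.eq_of_le_of_card_ge le_sup_left (by
          have e1 := (W ⊔ W').index_mul_card
          have e2 := W.index_mul_card
          rw [h] at e1
          rw [hW] at e2
          omega)).symm
    refine Subgroup.eq_of_le_of_card_ge (le_sup_right.trans h1.le) ?_
    have e1 := W'.index_mul_card
    have e2 := W.index_mul_card
    rw [hW'2] at e1
    rw [hW] at e2
    omega
  have hcen : W ⊓ W' ≤ Subgroup.center U := by
    intro z hz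
    rw [Subgroup.mem_center_iff]
    intro g
    have hle : W ⊔ W' ≤ Subgroup.centralizer ({z} : Set U) :=
      sup_le (fun x hx => by
          rw [Subgroup.mem_centralizer_singleton_iff]; exact hWcomm x hx z hz.1)
        (fun x hx => by rw [Subgroup.mem_centralizer_singleton_iff]; exact hW'comm x hx z hz.2)
    rw [htop] at hle
    exact Subgroup.mem_centralizer_singleton_iff.1 (hle (Subgroup.mem_top g))
  have hcenW : Subgroup.center U ≤ W := by
    intro z hz
    by_contra hzW
    apply hnc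
    have hall : ∀ x : U, ∃ w ∈ W, x = w ∨ x = w * z := by
      intro x
      by_cases hx : x ∈ W
      · exact ⟨x, hx, Or.inl rfl⟩
      · refine ⟨x * z⁻¹, ?_, Or.inr (by rw [inv_mul_cancel_right])⟩
        rw [Subgroup.mul_mem_iff_of_index_two hW, inv_mem_iff]
        exact iff_of_false hx hzW
    have hzc : ∀ g : U, g * z = z * g := Subgroup.mem_center_iff.1 hz
    refine ⟨⟨fun x y => ?_⟩⟩
    obtain ⟨u, hu, rfl | rfl⟩ := hall x <;> obtain ⟨v, hv, rfl | rfl⟩ := hall y
    · exact hWcomm _ hu _ hv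
    · rw [← mul_assoc, hWcomm _ hu _ hv, mul_assoc, hzc, ← mul_assoc]
    · rw [mul_assoc, ← hzc, ← mul_assoc, hWcomm _ hu _ hv, mul_assoc]
    · rw [show u * z * (v * z) = u * v * (z * z) by rw [mul_assoc, ← mul_assoc z, ← hzc v]; simp only [mul_assoc],
        show v * z * (u * z) = v * u * (z * z) by rw [mul_assoc, ← mul_assoc z, ← hzc u]; simp only [mul_assoc],
        hWcomm _ hu _ hv]
  have hZi : (Subgroup.center U).index ≤ 4 := by
    have h1 : (W ⊓ W').index ≤ 4 := by
      have := Subgroup.index_inf_le (H := W) (K := W')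
      rw [hW, hW'2] at this
      exact this
    exact (Nat.le_of_dvd (Nat.pos_of_ne_zero Subgroup.index_ne_zero_of_finite) (Subgroup.index_dvd_of_le hcen)).trans h1
  exact ⟨hZi, hcenW⟩

/-- The cube of an odd-order automorphism of a 2-group with a single involution is trivial. -/
theorem aut_cube (hU : IsPGroup 2 U) (huniq : ∃! x : U, orderOf x = 2) (φ : MulAut U) {r : ℕ} (hr : Odd r)
    (hφ : φ ^ r = 1) : φ ^ 3 = 1 := by
  classical
  rcases cyclic_or_exists hU huniq with hc | ⟨hnc, W, hW, hWc⟩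
  · rw [aut_eq_one_of_cyclic hU φ hr hφ, one_pow]
  haveI := hWc
  by_cases hmap : W.map φ.toMonoidHom = W
  · rw [aut_eq_one_of_map hU φ hr hφ W hW hmap, one_pow]
  set W' := W.map φ.toMonoidHom with hW'
  have hW'2 : W'.index = 2 := by rw [hW', ← hW]; exact Subgroup.index_map_equiv W φ
  have hWcomm : ∀ x ∈ W, ∀ y ∈ W, x * y = y * x := fun x hx y hy =>
    congrArg Subtype.val (IsMulCommutative.is_comm.comm (⟨x, hx⟩ : W) ⟨y, hy⟩)
  have hW'comm : ∀ x ∈ W', ∀ y ∈ W', x * y = y * x := by
    rintro _ ⟨x, hx, rfl⟩ _ ⟨y, hy, rfl⟩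
    rw [← map_mul, ← map_mul, hWcomm x hx y hy]
  obtain ⟨hZi, hcenW⟩ := center_index_le hnc W W' hW hW'2 hWcomm hW'comm hmap
  set Z := Subgroup.center U with hZ
  -- the action on the quotient
  have hZφ : ∀ (ψ : MulAut U) (x : U), x ∈ Z → ψ x ∈ Z := fun ψ x hx => by
    rw [hZ, Subgroup.mem_center_iff] at hx ⊢
    intro g
    obtain ⟨g, rfl⟩ := ψ.surjective g
    rw [← map_mul, ← map_mul, hx]
  have hwd : ∀ (ψ : MulAut U) (x y : U), (QuotientGroup.leftRel Z).r x y → (ψ x : U ⧸ Z) = (ψ y : U ⧸ Z) := by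
    intro ψ x y hxy
    rw [QuotientGroup.eq, ← map_inv, ← map_mul]
    exact hZφ ψ _ (QuotientGroup.leftRel_apply.1 hxy)
  let act : MulAut U →* Equiv.Perm (U ⧸ Z) :=
    { toFun := fun ψ =>
        { toFun := Quotient.lift (fun x => (ψ x : U ⧸ Z)) (hwd ψ)
          invFun := Quotient.lift (fun x => (ψ⁻¹ x : U ⧸ Z)) (hwd ψ⁻¹)
          left_inv := fun q => Quotient.inductionOn q fun x => congrArg QuotientGroup.mk (MulEquiv.symm_apply_apply ψ x)
          right_inv := fun q => Quotient.inductionOn q fun x => congrArg QuotientGroup.mk (MulEquiv.apply_symm_apply ψ x) }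
      map_one' := Equiv.ext fun q => Quotient.inductionOn q fun x => rfl
      map_mul' := fun ψ χ => Equiv.ext fun q => Quotient.inductionOn q fun x => rfl }
  have hact : (act φ) ^ 3 = 1 := by
    have h1 : orderOf (act φ) ∣ r := orderOf_dvd_of_pow_eq_one (by rw [← map_pow, hφ, map_one])
    have h2 : orderOf (act φ) ∣ 24 := by
      refine (orderOf_dvd_natCard _).trans ?_
      rw [Nat.card_perm]
      exact Nat.factorial_dvd_factorial (show Nat.card (U ⧸ Z) ≤ 4 from hZi)
    refine orderOf_dvd_iff_pow_eq_one.1 ?_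
    have hco : Nat.Coprime (orderOf (act φ)) 8 :=
      Nat.Coprime.coprime_dvd_left h1 (Nat.Coprime.pow_right 3 (Nat.coprime_two_right.2 hr))
    exact hco.dvd_of_dvd_mul_left (show orderOf (act φ) ∣ 8 * 3 from h2)
  rw [← map_pow] at hact
  refine aut_eq_one_of_map hU (φ ^ 3) hr (by rw [← pow_mul, mul_comm, pow_mul, hφ, one_pow]) W hW ?_
  refine Subgroup.eq_of_le_of_card_ge ?_ (by
    rw [Subgroup.card_map_of_injective (f := (φ ^ 3 : MulAut U).toMonoidHom) (φ ^ 3 : MulAut U).injective])
  rintro _ ⟨w, hw, rfl⟩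
  have hq : (((φ ^ 3) w : U) : U ⧸ Z) = (w : U ⧸ Z) := congrArg (fun p : Equiv.Perm (U ⧸ Z) => p (w : U ⧸ Z)) hact
  rw [QuotientGroup.eq] at hq
  have := W.mul_mem hw (W.inv_mem (hcenW hq))
  simpa [mul_inv_rev] using this

end CfsgLib.SharpThree
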