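import Cfsg.Agent.Lib.SharpThree.TwoGroup
import Cfsg.Agent.Lib.Fusion.FrobeniusCriterion
import Cfsg.Agent.Lib.PGroup.CyclicMaximal
import Mathlib.GroupTheory.SpecificGroups.Cyclic
import Mathlib.GroupTheory.Sylow
import Mathlib.NumberTheory.Basic
import Mathlib.GroupTheory.IndexNormal

/-!
A finite group with an involutory automorphism having at most two fixed points, a single involution and at
most one subgroup of order three: it has a commutative invariant subgroup of index two, unless it is built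
on a quaternion group and an abelian normal subgroup of index dividing 24.
-/

set_option autoImplicit false

namespace CfsgLib.SharpThree

open Subgroup

universe u

variable {M : Type u} [Group M] [Finite M]

/-- The hypotheses on the two-point stabiliser, with the automorphism induced by the exchanging involution. -/
structure Sit (σ : MulAut M) (z : M) : Prop where
  invol : orderOf z = 2
  uniq : ∀ x : M, orderOf x = 2 → x = z
  sq : ∀ x, σ (σ x) = x
  fixed : ∀ x, σ x = x → x = 1 ∨ x = z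
  three : ∀ x y : M, orderOf x = 3 → orderOf y = 3 → y ∈ zpowers x

variable {σ : MulAut M} {z : M}

/-- A subgroup all whose elements are inverted is commutative. -/
theorem comm_of_inverted (H : Subgroup M) (h : ∀ x ∈ H, σ x = x⁻¹) :
    ∀ x ∈ H, ∀ y ∈ H, x * y = y * x := by
  intro x hx y hy
  have := h (x * y) (H.mul_mem hx hy)
  rw [map_mul, h x hx, h y hy, mul_inv_rev] at this
  simpa using congrArg (fun t => t⁻¹) this.symm

/-- An invariant subgroup of odd order is inverted. -/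
theorem Sit.odd_inverted (hs : Sit σ z) (H : Subgroup M) (hinv : ∀ x ∈ H, σ x ∈ H)
    (hodd : Odd (Nat.card H)) : ∀ x ∈ H, σ x = x⁻¹ := by
  let f : H → H := fun h => ⟨(h : M)⁻¹ * σ h, H.mul_mem (H.inv_mem h.2) (hinv _ h.2)⟩
  have hf : Function.Injective f := by
    intro a b hab
    have e : (a : M)⁻¹ * σ a = (b : M)⁻¹ * σ b := congrArg Subtype.val hab
    have e' : σ ((a : M) * (b : M)⁻¹) = (a : M) * (b : M)⁻¹ := by
      rw [map_mul, map_inv, eq_mul_inv_iff_mul_eq, mul_assoc]
      have : σ a = a * ((b : M)⁻¹ * σ b) := by rw [← e, mul_inv_cancel_left]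
      rw [this]
      group
    rcases hs.fixed _ e' with h1 | h1
    · exact Subtype.ext (mul_inv_eq_one.1 h1)
    · have h2 : (a : M) * (b : M)⁻¹ ∈ H := H.mul_mem a.2 (H.inv_mem b.2)
      have h3 := Subgroup.orderOf_dvd_natCard H h2
      rw [h1, hs.invol] at h3
      exact absurd hodd (by rw [Nat.not_odd_iff_even]; exact even_iff_two_dvd.2 h3)
  intro x hx
  obtain ⟨a, ha⟩ := Finite.surjective_of_injective hf ⟨x, hx⟩
  have e : x = (a : M)⁻¹ * σ a := (congrArg Subtype.val ha).symm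
  rw [e, map_mul, map_inv, hs.sq, mul_inv_rev, inv_inv]

/-- If all values of `g⁻¹ σ g`, `g ∈ H`, lie in `L ≤ H`, then `L = H` or `L` has index two in `H` and is inverted. -/
theorem Sit.values (hs : Sit σ z) (H L : Subgroup M) (hLH : L ≤ H)
    (hL : ∀ g ∈ H, g⁻¹ * σ g ∈ L) : L = H ∨ (2 * Nat.card L = Nat.card H ∧ ∀ x ∈ L, σ x = x⁻¹) := by
  classical
  haveI := Fintype.ofFinite M
  let S : Finset M := Finset.univ.filter fun g => g ∈ H
  let T : Finset M := S.image fun g => g⁻¹ * σ g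
  have hS : S.card = Nat.card H := by
    rw [Nat.card_eq_fintype_card, Fintype.card_subtype]
  let LF : Finset M := Finset.univ.filter fun g => g ∈ L
  have hLF : LF.card = Nat.card L := by
    rw [Nat.card_eq_fintype_card, Fintype.card_subtype]
  have hTL : T ⊆ LF := by
    intro x hx
    obtain ⟨g, hg, rfl⟩ := Finset.mem_image.1 hx
    exact Finset.mem_filter.2 ⟨Finset.mem_univ _, hL g (Finset.mem_filter.1 hg).2⟩
  have hST : S.card ≤ 2 * T.card := by
    refine Finset.card_le_mul_card_image S 2 fun t _ => ?_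
    rcases (S.filter fun g => g⁻¹ * σ g = t).eq_empty_or_nonempty with h | ⟨g₀, hg₀⟩
    · rw [h]; simp
    refine (Finset.card_le_card (t := ({g₀, z * g₀} : Finset M)) fun g hg => ?_).trans Finset.card_le_two
    have e : g⁻¹ * σ g = g₀⁻¹ * σ g₀ := (Finset.mem_filter.1 hg).2.trans (Finset.mem_filter.1 hg₀).2.symm
    have e' : σ (g * g₀⁻¹) = g * g₀⁻¹ := by
      have : σ g = g * (g₀⁻¹ * σ g₀) := by rw [← e, mul_inv_cancel_left]
      rw [map_mul, map_inv, this]
      group
    rcases hs.fixed _ e' with h1 | h1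
    · simp [mul_inv_eq_one.1 h1]
    · simp [mul_inv_eq_iff_eq_mul.1 h1]
  by_cases hLeq : L = H
  · exact Or.inl hLeq
  right
  have hdvd := Subgroup.card_dvd_of_le hLH
  have hlt : Nat.card L < Nat.card H := by
    by_contra hge
    exact hLeq (Subgroup.eq_of_le_of_card_ge hLH (not_lt.1 hge))
  have h1 : T.card ≤ LF.card := Finset.card_le_card hTL
  obtain ⟨k, hk⟩ := hdvd
  have hk2 : 2 ≤ k := by
    rcases k with _ | _ | k
    · simp at hk
    · omega
    · omega
  have h2 : 2 * Nat.card L ≤ Nat.card H := by rw [hk, mul_comm]; exact Nat.mul_le_mul_left _ hk2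
  refine ⟨by omega, fun x hx => ?_⟩
  have hTe : T = LF := Finset.eq_of_subset_of_card_le hTL (by omega)
  obtain ⟨g, -, rfl⟩ := Finset.mem_image.1 (show x ∈ T by rw [hTe]; simp [LF, hx])
  rw [map_mul, map_inv, hs.sq, mul_inv_rev, inv_inv]

/-- Commutative subgroup of index two: there is an invariant one. -/
theorem exists_invariant (hsq : ∀ x, σ (σ x) = x) (A : Subgroup M) (hA : A.index = 2)
    (hAc : ∀ x ∈ A, ∀ y ∈ A, x * y = y * x) :
    ∃ N : Subgroup M, N.index = 2 ∧ (∀ x ∈ N, ∀ y ∈ N, x * y = y * x) ∧ ∀ x ∈ N, σ x ∈ N := by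
  classical
  by_cases hinv : ∀ x ∈ A, σ x ∈ A
  · exact ⟨A, hA, hAc, hinv⟩
  push Not at hinv
  obtain ⟨a, ha, ha'⟩ := hinv
  have key := @Subgroup.mul_mem_iff_of_index_two _ _ A hA
  let N : Subgroup M :=
    { carrier := {g | g ∈ A ↔ σ g ∈ A}
      one_mem' := by simp [A.one_mem]
      mul_mem' := fun {x y} hx hy => by
        simp only [Set.mem_setOf_eq, map_mul, key] at hx hy ⊢
        tauto
      inv_mem' := fun {x} hx => by
        simp only [Set.mem_setOf_eq, map_inv, inv_mem_iff] at hx ⊢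
        exact hx }
  have hN : ∀ g, g ∈ N ↔ (g ∈ A ↔ σ g ∈ A) := fun g => Iff.rfl
  have hN2 : N.index = 2 := by
    rw [Subgroup.index_eq_two_iff]
    refine ⟨a, fun b => ?_⟩
    simp only [hN, map_mul, key]
    by_cases hb : b ∈ A <;> by_cases hb' : σ b ∈ A <;> simp [hb, hb', ha, ha', Xor']
  -- the common part is central
  have hcent : ∀ x, x ∈ A → σ x ∈ A → ∀ g, g * x = x * g := by
    intro x hx hx' g
    have hB : ∀ y, σ y ∈ A → y * x = x * y := fun y hy => σ.injective (by
      rw [map_mul, map_mul]; exact hAc _ hy _ hx')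
    by_cases hg : g ∈ A
    · exact hAc _ hg _ hx
    by_cases hg' : σ g ∈ A
    · exact hB g hg'
    have h1 : g * a⁻¹ ∉ A := by rw [key, inv_mem_iff]; simp [hg, ha]
    have h2 : σ (g * a⁻¹) ∈ A := by
      rw [map_mul, map_inv, key, inv_mem_iff]; simp [hg', ha']
    calc g * x = g * a⁻¹ * (a * x) := by group
      _ = g * a⁻¹ * (x * a) := by rw [hAc _ ha _ hx]
      _ = g * a⁻¹ * x * a := by group
      _ = x * (g * a⁻¹) * a := by rw [hB _ h2]
      _ = x * g := by group
  refine ⟨N, hN2, ?_, fun x hx => ?_⟩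
  · intro x hx y hy
    by_cases h1 : x ∈ A
    · exact (hcent x h1 ((hN x).1 hx |>.1 h1) y).symm
    by_cases h2 : y ∈ A
    · exact hcent y h2 ((hN y).1 hy |>.1 h2) x
    have h3 : y * x⁻¹ ∈ A := by rw [key, inv_mem_iff]; simp [h1, h2]
    have h4 : σ (y * x⁻¹) ∈ A := ((hN _).1 (N.mul_mem hy (N.inv_mem hx))).1 h3
    have h5 := hcent _ h3 h4 x
    calc x * y = x * (y * x⁻¹) * x := by group
      _ = y * x⁻¹ * x * x := by rw [h5]
      _ = y * x := by group
  · rw [hN] at hx ⊢
    rw [hsq x]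
    exact hx.symm

omit [Finite M] in
/-- Uniqueness of the involution passes to subgroups. -/
theorem uniq_subgroup (huniq : ∀ x y : M, orderOf x = 2 → orderOf y = 2 → x = y) (U : Subgroup M) :
    ∀ x y : U, orderOf x = 2 → orderOf y = 2 → x = y := fun x y hx hy =>
  Subtype.ext (huniq _ _ (by rw [Subgroup.orderOf_coe]; exact hx) (by rw [Subgroup.orderOf_coe]; exact hy))

theorem existsUnique_of_ne_bot (huniq : ∀ x y : M, orderOf x = 2 → orderOf y = 2 → x = y) (U : Subgroup M)
    (hU : IsPGroup 2 U) (hne : U ≠ ⊥) : ∃! x : U, orderOf x = 2 := by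
  haveI : Fact (Nat.Prime 2) := ⟨Nat.prime_two⟩
  haveI : Nontrivial U := (Subgroup.nontrivial_iff_ne_bot U).2 hne
  obtain ⟨k, hk, hk'⟩ := hU.nontrivial_iff_card.1 inferInstance
  obtain ⟨x, hx⟩ := exists_prime_orderOf_dvd_card' (G := U) 2 (by rw [hk']; exact dvd_pow_self _ (by omega))
  exact ⟨x, hx, fun y hy => uniq_subgroup huniq U y x hy hx⟩

omit [Finite M] in
theorem mem_centralizer_iff_hom (U : Subgroup M) (g : normalizer (U : Set M)) :
    U.normalizerMonoidHom g = 1 ↔ (g : M) ∈ centralizer (U : Set M) := by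
  rw [← MonoidHom.mem_ker, Subgroup.normalizerMonoidHom_ker]
  rfl

theorem odd_orderOf_pow {g : M} (h : Odd (orderOf g)) (j : ℕ) : Odd (orderOf (g ^ j)) :=
  h.of_dvd_nat (orderOf_pow_dvd j)

/-- An element of odd order normalising a 2-subgroup: its cube centralises it. -/
theorem cube_mem_centralizer (huniq : ∀ x y : M, orderOf x = 2 → orderOf y = 2 → x = y) (U : Subgroup M)
    (hU : IsPGroup 2 U) {g : M} (hg : g ∈ normalizer (U : Set M)) (hodd : Odd (orderOf g)) :
    g ^ 3 ∈ centralizer (U : Set M) := by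
  by_cases hne : U = ⊥
  · subst hne
    rw [Subgroup.mem_centralizer_iff]
    intro x hx
    rw [Subgroup.coe_bot, Set.mem_singleton_iff] at hx
    simp [hx]
  have := (mem_centralizer_iff_hom U (⟨g, hg⟩ ^ 3)).1 (by
    rw [map_pow]
    refine aut_cube hU (existsUnique_of_ne_bot huniq U hU hne) _ hodd ?_
    rw [← map_pow, show (⟨g, hg⟩ : normalizer (U : Set M)) ^ orderOf g = 1 from
      Subtype.ext (by simpa using pow_orderOf_eq_one g), map_one])
  simpa using this

/-- An element of odd order normalising a 2-subgroup and centralising a subgroup of index two centralises it. -/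
theorem mem_centralizer_of_half (U V : Subgroup M) (hU : IsPGroup 2 U) (hVU : V ≤ U)
    (hcard : 2 * Nat.card V = Nat.card U) {g : M} (hg : g ∈ normalizer (U : Set M)) (hodd : Odd (orderOf g))
    (hcen : ∀ v ∈ V, g * v = v * g) : g ∈ centralizer (U : Set M) := by
  refine (mem_centralizer_iff_hom U ⟨g, hg⟩).1 ?_
  refine aut_eq_one_of_fix_index_two hU _ hodd ?_ (V.subgroupOf U) ?_ ?_
  · rw [← map_pow, show (⟨g, hg⟩ : normalizer (U : Set M)) ^ orderOf g = 1 from
      Subtype.ext (by simpa using pow_orderOf_eq_one g), map_one]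
  · have h1 := (V.subgroupOf U).index_mul_card
    rw [Nat.card_congr (Subgroup.subgroupOfEquivOfLe hVU).toEquiv, ← hcard] at h1
    exact Nat.eq_of_mul_eq_mul_right Nat.card_pos h1
  · intro w hw
    apply Subtype.ext
    have e := hcen _ (Subgroup.mem_subgroupOf.1 hw)
    rw [Subgroup.normalizerMonoidHom_apply_apply_coe]
    simp [e]

/-- Either there is a normal 2-complement, or some element of 3-power order moves a 2-element it normalises. -/
theorem complement_or_three (huniq : ∀ x y : M, orderOf x = 2 → orderOf y = 2 → x = y) :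
    Cfsg.HasNormalPComplement 2 M ∨ ∃ (U : Subgroup M) (y : M), IsPGroup 2 U ∧ y ∈ normalizer (U : Set M) ∧
      (∃ i, orderOf y = 3 ^ i) ∧ y ∉ centralizer (U : Set M) := by
  haveI : Fact (Nat.Prime 2) := ⟨Nat.prime_two⟩
  by_contra hc
  push Not at hc
  apply hc.1
  refine CfsgLib.NPC.frobenius_criterion fun U hU g hg hco => ?_
  have hodd : Odd (orderOf g) := Nat.coprime_two_right.1 hco
  obtain ⟨i, r, hr, he⟩ := Nat.exists_eq_pow_mul_and_not_dvd (orderOf_pos g).ne' 3 (by omega)
  have h1 : g ^ 3 ∈ centralizer (U : Set M) := cube_mem_centralizer huniq U hU hg hodd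
  have h2 : g ^ r ∈ centralizer (U : Set M) := hc.2 U _ hU (pow_mem hg r) ⟨i, by
    have hr0 : r ≠ 0 := by rintro rfl; simp at hr
    rw [orderOf_pow' g hr0, he, Nat.gcd_mul_left_left, Nat.mul_div_left _ (Nat.pos_of_ne_zero hr0)]⟩
  have h3 : g ∈ centralizer (U : Set M) := by
    have hcop : Nat.gcd r 3 = 1 := ((Nat.Prime.coprime_iff_not_dvd Nat.prime_three).2 hr).symm
    have hb := Nat.gcd_eq_gcd_ab r 3
    rw [hcop] at hb
    have : g = (g ^ r) ^ (Nat.gcdA r 3) * (g ^ 3) ^ (Nat.gcdB r 3) := by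
      rw [← zpow_natCast g r, ← zpow_natCast g 3, ← zpow_mul, ← zpow_mul, ← zpow_add, ← hb]; simp
    rw [this]
    exact mul_mem (zpow_mem h2 _) (zpow_mem h1 _)
  exact h3

omit [Finite M] in
/-- For an inverted normal subgroup all values `g⁻¹ σ g` centralise it. -/
theorem value_mem_centralizer (O : Subgroup M) [O.Normal] (hinvert : ∀ x ∈ O, σ x = x⁻¹) (g : M) :
    g⁻¹ * σ g ∈ centralizer (O : Set M) := by
  rw [Subgroup.mem_centralizer_iff]
  intro o ho
  have h1 := hinvert _ (Subgroup.Normal.conj_mem ‹O.Normal› o⁻¹ (O.inv_mem ho) g)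
  rw [map_mul, map_mul, map_inv, map_inv, hinvert o ho, inv_inv] at h1
  have h2 : σ g * o = g * o * g⁻¹ * σ g := by
    calc σ g * o = σ g * o * (σ g)⁻¹ * σ g := by group
      _ = (g * o⁻¹ * g⁻¹)⁻¹ * σ g := by rw [h1]
      _ = g * o * g⁻¹ * σ g := by group
  calc o * (g⁻¹ * σ g) = g⁻¹ * (g * o * g⁻¹ * σ g) := by group
    _ = g⁻¹ * (σ g * o) := by rw [h2]
    _ = g⁻¹ * σ g * o := by group

/-- The case of a normal 2-complement. -/
theorem Sit.index_two_of_complement (hs : Sit σ z) (h : Cfsg.HasNormalPComplement 2 M) :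
    ∃ A : Subgroup M, A.index = 2 ∧ ∀ x ∈ A, ∀ y ∈ A, x * y = y * x := by
  haveI : Fact (Nat.Prime 2) := ⟨Nat.prime_two⟩
  obtain ⟨P, O, hOn, hc⟩ := h
  have hOcop : Odd (Nat.card O) := by
    rw [← Nat.not_even_iff_odd, even_iff_two_dvd, ← hc.index_eq_card]
    exact P.not_dvd_index
  have hOinv : ∀ x ∈ O, σ x ∈ O := by
    have hN : CfsgLib.NPC.IsNPC 2 O := by
      obtain ⟨k, hk⟩ := IsPGroup.iff_card.1 P.isPGroup'
      exact ⟨hOn, Nat.coprime_two_right.2 hOcop, k, by rw [← hk, hc.symm.index_eq_card]⟩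
    intro x hx
    rw [CfsgLib.NPC.mem_iff_coprime hN] at hx ⊢
    rwa [MulEquiv.orderOf_eq]
  have hinvert := hs.odd_inverted O hOinv hOcop
  set C := centralizer (O : Set M) with hC
  have hval : ∀ g ∈ (⊤ : Subgroup M), g⁻¹ * σ g ∈ C := fun g _ => value_mem_centralizer O hinvert g
  rcases hs.values ⊤ C le_top hval with hCt | ⟨hcard, hCi⟩
  swap
  · refine ⟨C, ?_, comm_of_inverted C hCi⟩
    have h1 := C.index_mul_card
    rw [Subgroup.card_top] at hcard
    rw [← hcard] at h1
    exact Nat.eq_of_mul_eq_mul_right Nat.card_pos h1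
  -- the complement is central
  have hOc : ∀ o ∈ O, ∀ g, g * o = o * g := fun o ho g =>
    (Subgroup.mem_centralizer_iff.1 (hCt.symm ▸ Subgroup.mem_top g : g ∈ C) o ho).symm
  set Q : Subgroup M := (P : Subgroup M)
  have hzQ : Q ≠ ⊥ := by
    intro h0
    have h1 := hc.card_mul
    rw [h0, Subgroup.card_bot, mul_one] at h1
    have h2 := orderOf_dvd_natCard z
    rw [hs.invol, ← h1] at h2
    exact absurd hOcop (by rw [Nat.not_odd_iff_even]; exact even_iff_two_dvd.2 h2)
  obtain ⟨k, hk⟩ := IsPGroup.iff_card.1 P.isPGroup'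
  have hk0 : k ≠ 0 := by
    rintro rfl
    exact hzQ (Subgroup.eq_bot_of_card_eq _ (by simpa using hk))
  -- an index two commutative subgroup of the Sylow subgroup
  obtain ⟨W, hWQ, hW2, hWc⟩ : ∃ W : Subgroup M, W ≤ Q ∧ 2 * Nat.card W = Nat.card Q ∧
      ∀ x ∈ W, ∀ y ∈ W, x * y = y * x := by
    have hu : ∃! x : Q, orderOf x = 2 :=
      existsUnique_of_ne_bot (fun x y hx hy => (hs.uniq x hx).trans (hs.uniq y hy).symm) Q P.isPGroup' hzQ
    rcases cyclic_or_exists P.isPGroup' hu with hcy | ⟨-, W, hW, hWc⟩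
    · haveI := hcy
      obtain ⟨W, hW⟩ := Sylow.exists_subgroup_card_pow_prime 2
        (show 2 ^ (k - 1) ∣ Nat.card Q by rw [hk]; exact pow_dvd_pow _ (Nat.sub_le k 1))
      refine ⟨W.map Q.subtype, Subgroup.map_subtype_le W, ?_, ?_⟩
      · rw [Subgroup.card_map_of_injective Q.subtype_injective, hW, hk, ← pow_succ']
        congr 1; omega
      · rintro _ ⟨x, -, rfl⟩ _ ⟨y, -, rfl⟩
        rw [← map_mul, ← map_mul, (IsMulCommutative.is_comm (M := Q)).comm]
    · refine ⟨W.map Q.subtype, Subgroup.map_subtype_le W, ?_, ?_⟩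
      · rw [Subgroup.card_map_of_injective Q.subtype_injective, ← hW]
        exact W.index_mul_card
      · rintro _ ⟨x, hx, rfl⟩ _ ⟨y, hy, rfl⟩
        haveI := hWc
        rw [← map_mul, ← map_mul]
        exact congrArg (fun t : W => Q.subtype (t : Q)) (IsMulCommutative.is_comm.comm (⟨x, hx⟩ : W) ⟨y, hy⟩)
  refine ⟨O ⊔ W, ?_, ?_⟩
  · have hdisj : O.relIndex (O ⊔ W) = Nat.card W := by
      rw [sup_comm, Subgroup.relIndex_sup_right, ← Subgroup.inf_relIndex_right,
        (disjoint_iff.1 (hc.disjoint.mono_right hWQ)), Subgroup.relIndex_bot_left]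
    have h1 := Subgroup.relIndex_mul_relIndex (⊥ : Subgroup M) O (O ⊔ W) bot_le le_sup_left
    rw [hdisj, Subgroup.relIndex_bot_left, Subgroup.relIndex_bot_left] at h1
    have h2 := (O ⊔ W).index_mul_card
    have h3 := hc.card_mul
    rw [← h1, ← h3] at h2
    have h4 : (O ⊔ W).index * (Nat.card O * Nat.card W) = 2 * (Nat.card O * Nat.card W) := by
      rw [h2, ← hW2]; ring
    exact Nat.eq_of_mul_eq_mul_right (Nat.mul_pos Nat.card_pos Nat.card_pos) h4
  · have hgen : ∀ g ∈ O ⊔ W, ∃ o ∈ O, ∃ w ∈ W, g = o * w := by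
      intro g hg
      rw [← SetLike.mem_coe, Subgroup.normal_mul] at hg
      obtain ⟨o, ho, w, hw, rfl⟩ := Set.mem_mul.1 hg
      exact ⟨o, ho, w, hw, rfl⟩
    intro x hx y hy
    obtain ⟨o, ho, w, hw, rfl⟩ := hgen x hx
    obtain ⟨o', ho', w', hw', rfl⟩ := hgen y hy
    calc o * w * (o' * w') = o * (w * o') * w' := by group
      _ = o * o' * (w * w') := by rw [hOc o' ho' w]; group
      _ = o' * o * (w' * w) := by rw [hOc o' ho' o, hWc _ hw _ hw']
      _ = o' * (o * w') * w := by group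
      _ = o' * w' * (o * w) := by rw [← hOc o ho w']; group

/-- A 3-subgroup is cyclic when there is at most one subgroup of order three. -/
theorem cyclic_of_three (three : ∀ x y : M, orderOf x = 3 → orderOf y = 3 → y ∈ zpowers x) (P : Subgroup M)
    (hP : IsPGroup 3 P) : IsCyclic P := by
  haveI : Fact (Nat.Prime 3) := ⟨Nat.prime_three⟩
  refine CfsgLib.PGroup.isCyclic_of_unique_order_prime (by omega) hP fun x y hx hx1 hy => ?_
  by_cases hy1 : y = 1
  · exact hy1 ▸ one_mem _
  obtain ⟨j, hj⟩ := Subgroup.mem_zpowers_iff.1 (three (x : M) (y : M)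
    (by rw [Subgroup.orderOf_coe]; exact orderOf_eq_prime hx hx1)
    (by rw [Subgroup.orderOf_coe]; exact orderOf_eq_prime hy hy1))
  exact Subgroup.mem_zpowers_iff.2 ⟨j, Subtype.ext (by simpa using hj)⟩

/-- A central element of order three generating the only such subgroup gives a normal 3-complement. -/
theorem three_complement (three : ∀ x y : M, orderOf x = 3 → orderOf y = 3 → y ∈ zpowers x) {x₀ : M}
    (hx₀ : orderOf x₀ = 3) (hcen : ∀ g, g * x₀ = x₀ * g) : Cfsg.HasNormalPComplement 3 M := by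
  haveI : Fact (Nat.Prime 3) := ⟨Nat.prime_three⟩
  refine CfsgLib.NPC.frobenius_criterion fun P hP g hg hco => ?_
  by_cases hne : P = ⊥
  · subst hne
    rw [Subgroup.mem_centralizer_iff]
    intro x hx
    rw [Subgroup.coe_bot, Set.mem_singleton_iff] at hx
    simp [hx]
  haveI := cyclic_of_three three P hP
  haveI : Nontrivial P := (Subgroup.nontrivial_iff_ne_bot P).2 hne
  obtain ⟨k, hk, hk'⟩ := hP.nontrivial_iff_card.1 inferInstance
  obtain ⟨x, hx⟩ := exists_prime_orderOf_dvd_card' (G := P) 3 (by rw [hk']; exact dvd_pow_self _ (by omega))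
  refine (mem_centralizer_iff_hom P ⟨g, hg⟩).1 ?_
  set ψ := P.normalizerMonoidHom ⟨g, hg⟩ with hψdef
  obtain ⟨m, hm⟩ := MonoidHom.map_cyclic ψ.toMonoidHom
  have hψx : ψ x = x := by
    apply Subtype.ext
    obtain ⟨j, hj⟩ := Subgroup.mem_zpowers_iff.1 (three x₀ (x : M) hx₀ (by rw [Subgroup.orderOf_coe]; exact hx))
    have e : g * (x : M) = (x : M) * g := by rw [← hj]; exact Commute.zpow_right (hcen g) j
    rw [hψdef, Subgroup.normalizerMonoidHom_apply_apply_coe]
    simp [e]
  have h3 : (3 : ℤ) ∣ m - 1 := by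
    have h1 : x ^ m = x ^ (1 : ℤ) := by rw [zpow_one]; exact (hm x).symm.trans hψx
    have := orderOf_dvd_sub_iff_zpow_eq_zpow.2 h1
    rwa [hx] at this
  have hpow : ∀ (j : ℕ) (w : P), (ψ ^ j) w = w ^ (m ^ j) := by
    intro j
    induction j with
    | zero => intro w; simp
    | succ j ih =>
      intro w
      rw [pow_succ', MulAut.mul_apply, ih]
      exact (hm _).trans (by rw [← zpow_mul, pow_succ])
  have h1 : ψ ^ (3 ^ k) = 1 := by
    apply MulEquiv.ext
    intro w
    rw [hpow, MulAut.one_apply]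
    have hd := dvd_sub_pow_of_dvd_sub (p := 3) (a := m) (b := 1) (by exact_mod_cast h3) k
    rw [one_pow] at hd
    have hw : ((orderOf w : ℕ) : ℤ) ∣ m ^ 3 ^ k - 1 := by
      refine (Int.natCast_dvd_natCast.2 (show orderOf w ∣ 3 ^ (k + 1) from
        (orderOf_dvd_natCard w).trans (hk' ▸ pow_dvd_pow 3 (Nat.le_succ k)))).trans ?_
      exact_mod_cast hd
    exact (orderOf_dvd_sub_iff_zpow_eq_zpow.1 hw).trans (zpow_one w)
  have h2 : ψ ^ orderOf g = 1 := by
    rw [hψdef, ← map_pow, show (⟨g, hg⟩ : normalizer (P : Set M)) ^ orderOf g = 1 from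
      Subtype.ext (by simpa using pow_orderOf_eq_one g), map_one]
  rw [← orderOf_eq_one_iff]
  exact Nat.eq_one_of_dvd_coprimes (Nat.Coprime.pow_right k hco) (orderOf_dvd_of_pow_eq_one h2)
    (orderOf_dvd_of_pow_eq_one h1)

/-- The case of a quaternion section: a large centre. -/
theorem Sit.center_of_moved (hs : Sit σ z) {x₀ : M} (hx₀ : orderOf x₀ = 3) (hcen : ∀ g, g * x₀ = x₀ * g)
    (U : Subgroup M) (hU : IsPGroup 2 U) {y : M} (hyN : y ∈ normalizer (U : Set M)) {i : ℕ}
    (hy : orderOf y = 3 ^ i) (hmove : y ∉ centralizer (U : Set M)) :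
    (center M).index ∣ 12 ∧ 6 ∣ Nat.card (center M) ∧ 9 ∣ Nat.card M ∧ ∃ u v : M, u * v ≠ v * u := by
  classical
  haveI : Fact (Nat.Prime 2) := ⟨Nat.prime_two⟩
  haveI : Fact (Nat.Prime 3) := ⟨Nat.prime_three⟩
  have huniq : ∀ x y : M, orderOf x = 2 → orderOf y = 2 → x = y :=
    fun x y hx hy => (hs.uniq x hx).trans (hs.uniq y hy).symm
  have hyodd : Odd (orderOf y) := by rw [hy]; exact Odd.pow (by decide)
  -- normal complements
  obtain ⟨P3, M1, hM1n, hc3⟩ := three_complement hs.three hx₀ hcen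
  obtain ⟨b, hb⟩ := IsPGroup.iff_card.1 P3.isPGroup'
  have hM1c : Nat.Coprime (Nat.card M1) 3 := by
    rw [← hc3.index_eq_card, Nat.coprime_comm, Nat.Prime.coprime_iff_not_dvd Nat.prime_three]
    exact P3.not_dvd_index
  have hM1 : CfsgLib.NPC.IsNPC 3 M1 := ⟨hM1n, hM1c, b, by rw [← hb, hc3.symm.index_eq_card]⟩
  have hM1mem : ∀ g, g ∈ M1 ↔ Nat.Coprime (orderOf g) 3 := fun g => CfsgLib.NPC.mem_iff_coprime hM1
  obtain ⟨Q', O', hO'n, hc2⟩ : Cfsg.HasNormalPComplement 2 M1 := by
    refine CfsgLib.NPC.frobenius_criterion fun V hV g hg hco => ?_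
    have h3 := cube_mem_centralizer (uniq_subgroup huniq M1) V hV hg (Nat.coprime_two_right.1 hco)
    obtain ⟨j, hj⟩ := exists_pow_eq_self_of_coprime (n := 3) (x := g)
      (by rw [Nat.coprime_comm, ← Subgroup.orderOf_coe]; exact (hM1mem _).1 g.2)
    rw [← hj]
    exact pow_mem h3 j
  obtain ⟨a, ha⟩ := IsPGroup.iff_card.1 Q'.isPGroup'
  have hOodd : Odd (Nat.card O') := by
    rw [← Nat.not_even_iff_odd, even_iff_two_dvd, ← hc2.index_eq_card]
    exact Q'.not_dvd_index
  have hO' : CfsgLib.NPC.IsNPC 2 O' :=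
    ⟨hO'n, Nat.coprime_two_right.2 hOodd, a, by rw [← ha, hc2.symm.index_eq_card]⟩
  set O := O'.map M1.subtype with hOdef
  set Q := (Q' : Subgroup M1).map M1.subtype with hQdef
  have hOcard : Nat.card O = Nat.card O' := Subgroup.card_map_of_injective M1.subtype_injective
  have hQcard : Nat.card Q = 2 ^ a := (Subgroup.card_map_of_injective M1.subtype_injective).trans ha
  have hOmem : ∀ g, g ∈ O ↔ g ∈ M1 ∧ Odd (orderOf g) := by
    intro g
    constructor
    · rintro ⟨w, hw, rfl⟩
      refine ⟨w.2, ?_⟩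
      rw [Subgroup.coe_subtype, Subgroup.orderOf_coe]
      exact Nat.coprime_two_right.1 ((CfsgLib.NPC.mem_iff_coprime hO').1 hw)
    · rintro ⟨hg, ho⟩
      exact ⟨⟨g, hg⟩, (CfsgLib.NPC.mem_iff_coprime hO').2 (Nat.coprime_two_right.2
        (by rwa [← Subgroup.orderOf_coe])), rfl⟩
  haveI hOn : O.Normal := ⟨fun w hw g => by
    rw [hOmem] at hw ⊢
    refine ⟨hM1n.conj_mem w hw.1 g, ?_⟩
    rw [show g * w * g⁻¹ = MulAut.conj g w from (MulAut.conj_apply g w).symm, MulEquiv.orderOf_eq]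
    exact hw.2⟩
  have hOinv : ∀ w ∈ O, σ w ∈ O := fun w hw => by
    rw [hOmem, hM1mem] at hw ⊢
    rwa [MulEquiv.orderOf_eq]
  have hOinvert := hs.odd_inverted O hOinv (hOcard ▸ hOodd)
  -- the odd part is central
  set K := centralizer (O : Set M) with hK
  have hKtop : K = ⊤ := by
    rcases hs.values ⊤ K le_top (fun g _ => value_mem_centralizer O hOinvert g) with h | ⟨hcard, hKi⟩
    · exact h
    exfalso
    have hK2 : K.index = 2 := by
      have h1 := K.index_mul_card
      rw [Subgroup.card_top] at hcard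
      rw [← hcard] at h1
      exact Nat.eq_of_mul_eq_mul_right Nat.card_pos h1
    have hyK : y ∈ K := by
      obtain ⟨t, ht⟩ := hyodd
      have e : y = (y * y) ^ (t + 1) := by
        conv_lhs => rw [← one_mul y, ← pow_orderOf_eq_one y, ← pow_succ]
        rw [← pow_two, ← pow_mul, show 2 * (t + 1) = orderOf y + 1 by omega]
      rw [e]
      exact pow_mem (Subgroup.mul_self_mem_of_index_two hK2 y) _
    have hKn : K.Normal := Subgroup.normal_of_index_eq_two hK2
    have hcomm : ∀ v ∈ U ⊓ K, y * v = v * y := fun v hv => comm_of_inverted K hKi y hyK v hv.2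
    by_cases hUK : U ≤ K
    · exact hmove (Subgroup.mem_centralizer_iff.2 fun v hv => (hcomm v ⟨hv, hUK hv⟩).symm)
    refine hmove (mem_centralizer_of_half U (U ⊓ K) hU inf_le_left ?_ hyN hyodd hcomm)
    have h1 := K.relIndex_dvd_index_of_normal U
    rw [hK2] at h1
    rcases (Nat.dvd_prime Nat.prime_two).1 h1 with h2 | h2
    · exact absurd (Subgroup.relIndex_eq_one.1 h2) hUK
    · have h3 := Subgroup.relIndex_mul_relIndex (⊥ : Subgroup M) (U ⊓ K) U bot_le inf_le_left
      rw [Subgroup.relIndex_bot_left, Subgroup.relIndex_bot_left, inf_comm, Subgroup.inf_relIndex_right, h2] at h3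
      rw [inf_comm]; linarith
  have hOc : ∀ o ∈ O, ∀ g, g * o = o * g := fun o ho g =>
    (Subgroup.mem_centralizer_iff.1 (hKtop.symm ▸ Subgroup.mem_top g : g ∈ K) o ho).symm
  -- the Sylow 2-subgroup is normal
  have hQmem : ∀ g, g ∈ Q ↔ ∃ k, g ^ 2 ^ k = 1 := by
    intro g
    constructor
    · rintro ⟨w, hw, rfl⟩
      obtain ⟨k, hk⟩ := Q'.isPGroup' ⟨w, hw⟩
      exact ⟨k, by simpa using congrArg (fun t : (Q' : Subgroup M1) => ((t : M1) : M)) hk⟩
    · rintro ⟨k, hk⟩
      have hgM1 : g ∈ M1 := (hM1mem g).2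
        (Nat.Coprime.coprime_dvd_left (orderOf_dvd_of_pow_eq_one hk) (Nat.Coprime.pow_left k (by decide)))
      haveI := hO'n
      have hg2 : (⟨g, hgM1⟩ : M1) ∈ O' ⊔ (Q' : Subgroup M1) := by rw [hc2.sup_eq_top]; trivial
      rw [← SetLike.mem_coe, Subgroup.normal_mul] at hg2
      obtain ⟨o, ho, q, hq, he⟩ := Set.mem_mul.1 hg2
      have he' : (o : M) * (q : M) = g := congrArg Subtype.val he
      have hcomm : Commute (o : M) (q : M) := (hOc _ ⟨o, ho, rfl⟩ (q : M)).symm
      obtain ⟨l, hl⟩ := Q'.isPGroup' ⟨q, hq⟩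
      have hl' : (q : M) ^ 2 ^ l = 1 := by simpa using congrArg (fun t : (Q' : Subgroup M1) => ((t : M1) : M)) hl
      have ho1 : (o : M) ^ (2 ^ k * 2 ^ l) = 1 := by
        have h1 : g ^ (2 ^ k * 2 ^ l) = 1 := by rw [pow_mul, hk, one_pow]
        rw [← he', hcomm.mul_pow, mul_comm (2 ^ k), pow_mul (q : M), hl', one_pow, mul_one] at h1
        rwa [mul_comm]
      have ho2 : Odd (orderOf (o : M)) := ((hOmem _).1 ⟨o, ho, rfl⟩).2
      have ho3 : (o : M) = 1 := by
        rw [← orderOf_eq_one_iff]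
        refine Nat.eq_one_of_dvd_coprimes ?_ (orderOf_dvd_of_pow_eq_one ho1) dvd_rfl
        rw [← pow_add]
        exact Nat.Coprime.pow_left _ (Nat.coprime_two_left.2 ho2)
      rw [ho3, one_mul] at he'
      exact he' ▸ ⟨q, hq, rfl⟩
  have hQn : ∀ g : M, g ∈ normalizer (Q : Set M) := by
    have : Q.Normal := ⟨fun w hw g => by
      rw [hQmem] at hw ⊢
      obtain ⟨k, hk⟩ := hw
      exact ⟨k, by rw [conj_pow, hk, mul_one, mul_inv_cancel]⟩⟩
    intro g
    rw [Subgroup.normalizer_eq_top]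
    trivial
  have hUQ : U ≤ Q := fun v hv => (hQmem v).2 (by
    obtain ⟨k, hk⟩ := hU ⟨v, hv⟩
    exact ⟨k, by simpa using congrArg (fun t : U => (t : M)) hk⟩)
  have hQp : IsPGroup 2 Q := IsPGroup.of_card hQcard
  have hymove : y ∉ centralizer (Q : Set M) := fun h => hmove (Subgroup.centralizer_le hUQ h)
  have hQne : Q ≠ ⊥ := by
    intro h
    apply hymove
    rw [h, Subgroup.mem_centralizer_iff]
    intro x hx
    rw [Subgroup.coe_bot, Set.mem_singleton_iff] at hx
    simp [hx]
  -- the structure of the Sylow 2-subgroup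
  set φ := Q.normalizerMonoidHom ⟨y, hQn y⟩ with hφdef
  have hφ : φ ^ orderOf y = 1 := by
    rw [hφdef, ← map_pow, show (⟨y, hQn y⟩ : normalizer (Q : Set M)) ^ orderOf y = 1 from
      Subtype.ext (by simpa using pow_orderOf_eq_one y), map_one]
  have hφne : φ ≠ 1 := fun h => hymove ((mem_centralizer_iff_hom Q ⟨y, hQn y⟩).1 h)
  rcases cyclic_or_exists hQp (existsUnique_of_ne_bot huniq Q hQp hQne) with hcy | ⟨hnc, W, hW, hWc⟩
  · exact absurd (@aut_eq_one_of_cyclic _ _ _ hQp hcy φ _ hyodd hφ) hφne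
  haveI := hWc
  have hWcomm : ∀ u ∈ W, ∀ v ∈ W, u * v = v * u := fun u hu v hv =>
    congrArg Subtype.val (IsMulCommutative.is_comm.comm (⟨u, hu⟩ : W) ⟨v, hv⟩)
  obtain ⟨hidx, hZW⟩ := center_index_le hnc W (W.map φ.toMonoidHom) hW
    (by rw [← hW]; exact Subgroup.index_map_equiv W φ) hWcomm
    (by
      rintro _ ⟨u, hu, rfl⟩ _ ⟨v, hv, rfl⟩
      rw [← map_mul, ← map_mul, hWcomm u hu v hv])
    (fun h => hφne (aut_eq_one_of_map hQp φ hyodd hφ W hW h))
  set ZQ := (center Q).map Q.subtype with hZQ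
  haveI hcyc : IsCyclic ZQ := by
    haveI : IsCyclic (center Q) := Subgroup.isCyclic_of_le hZW
    exact isCyclic_of_surjective ((center Q).equivMapOfInjective Q.subtype Q.subtype_injective).toMonoidHom
      (MulEquiv.surjective _)
  have hZQp : IsPGroup 2 ZQ := hQp.to_le (Subgroup.map_subtype_le _)
  -- generators
  have hgen : ∀ H : Subgroup M, O ≤ H → Q ≤ H → (P3 : Subgroup M) ≤ H → H = ⊤ := by
    intro H h1 h2 h3
    apply Subgroup.eq_top_of_le_card
    refine Nat.le_of_dvd Nat.card_pos ?_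
    rw [← hc3.card_mul, ← hc2.card_mul, ← hOcard, ha, ← hQcard]
    have d1 := Subgroup.card_dvd_of_le h1
    have d2 := Subgroup.card_dvd_of_le h2
    have d3 := Subgroup.card_dvd_of_le h3
    have c1 : Nat.Coprime (Nat.card O) (Nat.card Q) := by
      rw [hOcard, hQcard]; exact Nat.Coprime.pow_right a (Nat.coprime_two_right.2 hOodd)
    refine Nat.Coprime.mul_dvd_of_dvd_of_dvd ?_ (c1.mul_dvd_of_dvd_of_dvd d1 d2) d3
    rw [hb, hQcard, hOcard, ← ha, hc2.card_mul]
    exact Nat.Coprime.pow_right b hM1c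
  have hZc : ZQ ≤ center M := by
    intro w hw
    have hwQ : w ∈ Q := Subgroup.map_subtype_le _ hw
    have hall : centralizer ({w} : Set M) = ⊤ := by
      refine hgen _ (fun o ho => ?_) (fun q hq => ?_) (fun g hg => ?_)
      · exact Subgroup.mem_centralizer_singleton_iff.2 (hOc o ho w).symm
      · rw [Subgroup.mem_centralizer_singleton_iff]
        obtain ⟨w', hw', rfl⟩ := hw
        exact congrArg Subtype.val (Subgroup.mem_center_iff.1 hw' (⟨q, hq⟩ : Q))
      · rw [Subgroup.mem_centralizer_singleton_iff]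
        have hgodd : Odd (orderOf g) := by
          obtain ⟨k, hk⟩ := P3.isPGroup' ⟨g, hg⟩
          exact Odd.of_dvd_nat (Odd.pow (by decide : Odd 3)) (orderOf_dvd_of_pow_eq_one
            (show g ^ 3 ^ k = 1 by simpa using congrArg (fun t : (P3 : Subgroup M) => (t : M)) hk))
        have hgN : g ∈ normalizer (ZQ : Set M) := by
          have hc : (center Q).map (Q.normalizerMonoidHom ⟨g, hQn g⟩).toMonoidHom = center Q := by
            refine Subgroup.eq_of_le_of_card_ge ?_ (by
              rw [Subgroup.card_map_of_injective (f := (Q.normalizerMonoidHom ⟨g, hQn g⟩).toMonoidHom)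
                (MulEquiv.injective _)])
            rintro _ ⟨u, hu, rfl⟩
            rw [SetLike.mem_coe, Subgroup.mem_center_iff] at hu
            rw [Subgroup.mem_center_iff]
            intro v
            obtain ⟨v, rfl⟩ := (Q.normalizerMonoidHom ⟨g, hQn g⟩).surjective v
            exact (map_mul _ v u).symm.trans ((congrArg _ (hu v)).trans (map_mul _ u v))
          refine Subgroup.mem_normalizer_iff.2 fun n => ⟨?_, ?_⟩
          · rintro ⟨u, hu, rfl⟩
            refine ⟨_, hc ▸ Subgroup.mem_map_of_mem _ hu, ?_⟩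
            rw [Subgroup.coe_subtype, MulEquiv.coe_toMonoidHom, Subgroup.normalizerMonoidHom_apply_apply_coe]
          · intro hn
            obtain ⟨u, hu, he⟩ := hn
            obtain ⟨v, hv, hve⟩ := (hc.symm ▸ hu : u ∈ (center Q).map (Q.normalizerMonoidHom ⟨g, hQn g⟩).toMonoidHom)
            refine ⟨v, hv, ?_⟩
            rw [← hve, Subgroup.coe_subtype, MulEquiv.coe_toMonoidHom,
              Subgroup.normalizerMonoidHom_apply_apply_coe] at he
            simpa using he
        have := (mem_centralizer_iff_hom ZQ ⟨g, hgN⟩).1 (aut_eq_one_of_cyclic hZQp _ hgodd (by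
          rw [← map_pow, show (⟨g, hgN⟩ : normalizer (ZQ : Set M)) ^ orderOf g = 1 from
            Subtype.ext (by simpa using pow_orderOf_eq_one g), map_one]))
        exact (Subgroup.mem_centralizer_iff.1 this w hw).symm
    rw [Subgroup.mem_center_iff]
    intro g
    exact Subgroup.mem_centralizer_singleton_iff.1 (hall ▸ Subgroup.mem_top g)
  haveI := cyclic_of_three hs.three (P3 : Subgroup M) P3.isPGroup'
  obtain ⟨w, hw⟩ := IsCyclic.exists_generator (α := (P3 : Subgroup M))
  have hwo : orderOf (w : M) = 3 ^ b := by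
    rw [Subgroup.orderOf_coe, ← hb, orderOf_eq_card_of_forall_mem_zpowers hw]
  have hw3 : (w : M) ^ 3 ∈ center M := by
    have hall : centralizer ({(w : M) ^ 3} : Set M) = ⊤ := by
      refine hgen _ (fun o ho => ?_) (fun q hq => ?_) (fun g hg => ?_)
      · exact Subgroup.mem_centralizer_singleton_iff.2 (hOc o ho _).symm
      · rw [Subgroup.mem_centralizer_singleton_iff]
        exact Subgroup.mem_centralizer_iff.1
          (cube_mem_centralizer huniq Q hQp (hQn (w : M)) (by rw [hwo]; exact Odd.pow (by decide))) q hq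
      · rw [Subgroup.mem_centralizer_singleton_iff]
        have := congrArg Subtype.val ((IsMulCommutative.is_comm (M := (P3 : Subgroup M))).comm ⟨g, hg⟩ (w ^ 3))
        simpa using this
    rw [Subgroup.mem_center_iff]
    intro g
    exact Subgroup.mem_centralizer_singleton_iff.1 (hall ▸ Subgroup.mem_top g)
  -- counting
  have hpow : 3 ^ b ∣ 3 * orderOf ((w : M) ^ 3) := by
    rw [← hwo]
    exact orderOf_dvd_of_pow_eq_one (by rw [pow_mul, pow_orderOf_eq_one])
  have hQ4 : Nat.card Q ∣ 4 * Nat.card ZQ := by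
    rw [hZQ, Subgroup.card_map_of_injective Q.subtype_injective, ← (center Q).index_mul_card]
    refine Nat.mul_dvd_mul_right ?_ _
    obtain ⟨j, -, hj⟩ := (Nat.dvd_prime_pow Nat.prime_two).1 (hQcard ▸ (center Q).index_dvd_card)
    rw [hj] at hidx ⊢
    exact pow_dvd_pow 2 (show j ≤ 2 from (Nat.pow_le_pow_iff_right (le_refl 2)).1 hidx)
  have hOA : Nat.card O ∣ Nat.card (center M) :=
    Subgroup.card_dvd_of_le fun o ho => Subgroup.mem_center_iff.2 fun g => hOc o ho g
  have hZA : Nat.card ZQ ∣ Nat.card (center M) := Subgroup.card_dvd_of_le hZc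
  have hwA : orderOf ((w : M) ^ 3) ∣ Nat.card (center M) := Subgroup.orderOf_dvd_natCard _ hw3
  have hprod : Nat.card O * Nat.card ZQ * orderOf ((w : M) ^ 3) ∣ Nat.card (center M) := by
    have d2 : Nat.card ZQ ∣ 2 ^ a := hQcard ▸ Subgroup.card_dvd_of_le (Subgroup.map_subtype_le _)
    have d3 : orderOf ((w : M) ^ 3) ∣ 3 ^ b := hwo ▸ orderOf_pow_dvd 3
    have c1 : Nat.Coprime (Nat.card O) (Nat.card ZQ) :=
      Nat.Coprime.coprime_dvd_right d2 (Nat.Coprime.pow_right a (Nat.coprime_two_right.2 (hOcard ▸ hOodd)))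
    refine Nat.Coprime.mul_dvd_of_dvd_of_dvd ?_ (c1.mul_dvd_of_dvd_of_dvd hOA hZA) hwA
    refine Nat.Coprime.coprime_dvd_right d3 (Nat.Coprime.coprime_dvd_left ?_ (Nat.Coprime.pow_right b hM1c))
    rw [← hc2.card_mul, ha, hOcard]
    exact Nat.mul_dvd_mul_left _ d2
  refine ⟨?_, ?_, ?_, ?_⟩
  · refine Nat.dvd_of_mul_dvd_mul_right (Nat.card_pos (α := center M)) ?_
    rw [Subgroup.index_mul_card, ← hc3.card_mul, ← hc2.card_mul, hb, ha, ← hQcard, ← hOcard]
    refine (Nat.mul_dvd_mul (Nat.mul_dvd_mul_left _ hQ4) hpow).trans ?_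
    refine dvd_trans (dvd_of_eq ?_) (Nat.mul_dvd_mul_left 12 hprod)
    ring
  · have e2 : 2 ∣ Nat.card (center M) := by
      rw [← hs.invol]
      refine Subgroup.orderOf_dvd_natCard _ (Subgroup.mem_center_iff.2 fun g => ?_)
      have := hs.uniq (g * z * g⁻¹) (by
        rw [← MulAut.conj_apply, MulEquiv.orderOf_eq]; exact hs.invol)
      exact mul_inv_eq_iff_eq_mul.1 this
    have e3 : 3 ∣ Nat.card (center M) :=
      hx₀ ▸ Subgroup.orderOf_dvd_natCard _ (Subgroup.mem_center_iff.2 hcen)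
    exact Nat.Coprime.mul_dvd_of_dvd_of_dvd (by decide : Nat.Coprime 2 3) e2 e3
  · rcases le_or_gt 2 i with hi | hi
    · exact dvd_trans (hy ▸ pow_dvd_pow 3 hi) (orderOf_dvd_natCard y)
    exfalso
    apply hmove
    rw [Subgroup.mem_centralizer_iff]
    intro v _
    interval_cases i
    · rw [pow_zero, orderOf_eq_one_iff] at hy
      simp [hy]
    · obtain ⟨j, hj⟩ := Subgroup.mem_zpowers_iff.1 (hs.three x₀ y hx₀ (by simpa using hy))
      rw [← hj]
      exact Commute.zpow_right (hcen v) j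
  · by_contra hcom
    push Not at hcom
    exact hnc ⟨⟨fun u v => Subtype.ext (hcom u v)⟩⟩

/-- Restriction of the automorphism to an invariant subgroup. -/
def restrict (hsq : ∀ x, σ (σ x) = x) (H : Subgroup M) (hinv : ∀ x ∈ H, σ x ∈ H) : MulAut H where
  toFun x := ⟨σ x, hinv _ x.2⟩
  invFun x := ⟨σ x, hinv _ x.2⟩
  left_inv x := Subtype.ext (hsq x)
  right_inv x := Subtype.ext (hsq x)
  map_mul' x y := Subtype.ext (map_mul σ (x : M) y)

/-- The structure: a commutative invariant subgroup of index two, or an exceptional configuration. -/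
theorem Sit.main (hs : Sit σ z)
    (hex : ∀ (A : Subgroup M) (c : ℕ), (∀ x ∈ A, ∀ y ∈ A, x * y = y * x) → Nat.card M = c * Nat.card A →
      c ∣ 24 → 6 ∣ Nat.card A → 9 ∣ Nat.card M → ∀ u v : M, (∀ a ∈ A, a * u = u * a) →
      (∀ a ∈ A, a * v = v * a) → u * v = v * u) :
    ∃ N : Subgroup M, N.index = 2 ∧ (∀ x ∈ N, ∀ y ∈ N, x * y = y * x) ∧ ∀ x ∈ N, σ x ∈ N := by
  classical
  haveI : Fact (Nat.Prime 3) := ⟨Nat.prime_three⟩
  have huniq : ∀ x y : M, orderOf x = 2 → orderOf y = 2 → x = y :=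
    fun x y hx hy => (hs.uniq x hx).trans (hs.uniq y hy).symm
  rcases complement_or_three huniq with h | ⟨U, y, hU, hyN, ⟨i, hi⟩, hmove⟩
  · obtain ⟨A, hA, hAc⟩ := hs.index_two_of_complement h
    exact exists_invariant hs.sq A hA hAc
  exfalso
  have hi0 : i ≠ 0 := by
    rintro rfl
    apply hmove
    rw [pow_zero, orderOf_eq_one_iff] at hi
    rw [hi]
    exact one_mem _
  set x₀ := y ^ 3 ^ (i - 1) with hx₀def
  have hx₀ : orderOf x₀ = 3 := by
    rw [hx₀def, orderOf_pow' y (pow_ne_zero _ (by omega)), hi, Nat.gcd_eq_right (pow_dvd_pow 3 (Nat.sub_le i 1)),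
      Nat.pow_div (Nat.sub_le i 1) (by omega)]
    rw [show i - (i - 1) = 1 by omega, pow_one]
  set C := centralizer ({x₀} : Set M) with hCdef
  have hmemC : ∀ g, g ∈ C ↔ g * x₀ = x₀ * g := fun g => Subgroup.mem_centralizer_singleton_iff
  have hconj : ∀ g : M, g * x₀ * g⁻¹ = x₀ ∨ g * x₀ * g⁻¹ = x₀⁻¹ := by
    intro g
    have ho : orderOf (g * x₀ * g⁻¹) = 3 := by
      rw [← MulAut.conj_apply, MulEquiv.orderOf_eq, hx₀]
    obtain ⟨j, hj⟩ := Subgroup.mem_zpowers_iff.1 (hs.three x₀ _ hx₀ ho)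
    have hj' : x₀ ^ (j % 3) = g * x₀ * g⁻¹ := by
      rw [← hj, ← zpow_mod_orderOf x₀ j, hx₀]; rfl
    have h3 : j % 3 = 0 ∨ j % 3 = 1 ∨ j % 3 = 2 := by omega
    rcases h3 with h | h | h <;> rw [h] at hj'
    · rw [zpow_zero] at hj'
      rw [← hj', orderOf_one] at ho
      omega
    · exact Or.inl (by rw [← hj', zpow_one])
    · refine Or.inr ?_
      rw [← hj', show (2 : ℤ) = (3 : ℕ) + (-1) by norm_num, zpow_add, zpow_natCast, ← hx₀, pow_orderOf_eq_one,
        one_mul, zpow_neg_one]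
  have hidx : C.index ∣ 2 := by
    by_cases hall : ∀ g, g ∈ C
    · rw [(Subgroup.eq_top_iff' C).2 hall, Subgroup.index_top]
      exact one_dvd 2
    push Not at hall
    obtain ⟨a, ha⟩ := hall
    refine dvd_of_eq ?_
    rw [Subgroup.index_eq_two_iff]
    refine ⟨a, fun b => ?_⟩
    have ha' : a * x₀ * a⁻¹ = x₀⁻¹ := (hconj a).resolve_left (fun h => ha ((hmemC a).2 (mul_inv_eq_iff_eq_mul.1 h)))
    rcases hconj b with hb | hb
    · exact Or.inr ⟨(hmemC b).2 (mul_inv_eq_iff_eq_mul.1 hb),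
        fun h => ha ((C.mul_mem_cancel_left ((hmemC b).2 (mul_inv_eq_iff_eq_mul.1 hb))).1 h)⟩
    · refine Or.inl ⟨(hmemC _).2 (mul_inv_eq_iff_eq_mul.1 ?_), fun h => ?_⟩
      · calc b * a * x₀ * (b * a)⁻¹ = b * (a * x₀ * a⁻¹) * b⁻¹ := by group
          _ = (b * x₀ * b⁻¹)⁻¹ := by rw [ha']; group
          _ = x₀ := by rw [hb, inv_inv]
      · have e : x₀⁻¹ = x₀ := hb.symm.trans (mul_inv_eq_iff_eq_mul.2 ((hmemC b).1 h))
        have e2 : x₀ ^ 2 = 1 := by
          rw [pow_two]
          nth_rw 1 [← e]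
          exact inv_mul_cancel x₀
        have e3 := orderOf_dvd_of_pow_eq_one e2
        rw [hx₀] at e3
        omega
  haveI hCn : C.Normal := by
    rcases (Nat.dvd_prime Nat.prime_two).1 hidx with h | h
    · rw [Subgroup.index_eq_one.1 h]; infer_instance
    · exact Subgroup.normal_of_index_eq_two h
  have hyodd : Odd (orderOf y) := by rw [hi]; exact Odd.pow (by decide)
  have hyC : y ∈ C := (hmemC y).2 (Commute.pow_right (Commute.refl y) _).eq
  have hzcen : ∀ g, g * z = z * g := fun g => by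
    have := hs.uniq (g * z * g⁻¹) (by
      rw [← MulAut.conj_apply, MulEquiv.orderOf_eq]; exact hs.invol)
    exact mul_inv_eq_iff_eq_mul.1 this
  have hinv : ∀ g ∈ C, σ g ∈ C := by
    intro g hg
    obtain ⟨j, hj⟩ := Subgroup.mem_zpowers_iff.1 (hs.three x₀ (σ x₀) hx₀ (by rw [MulEquiv.orderOf_eq, hx₀]))
    rw [hmemC] at hg ⊢
    have e : Commute g (σ x₀) := hj ▸ Commute.zpow_right (show Commute g x₀ from hg) j
    have := congrArg σ e.eq
    rwa [map_mul, map_mul, hs.sq] at this
  have hsC : Sit (restrict hs.sq C hinv) (⟨z, (hmemC z).2 (hzcen x₀).symm⟩ : C) :=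
    { invol := by rw [← Subgroup.orderOf_coe]; exact hs.invol
      uniq := fun x hx => Subtype.ext (hs.uniq _ (by rw [Subgroup.orderOf_coe]; exact hx))
      sq := fun x => Subtype.ext (hs.sq _)
      fixed := fun x hx => by
        rcases hs.fixed _ (congrArg Subtype.val hx) with h | h
        · exact Or.inl (Subtype.ext h)
        · exact Or.inr (Subtype.ext h)
      three := fun x y hx hy => by
        obtain ⟨j, hj⟩ := Subgroup.mem_zpowers_iff.1 (hs.three (x : M) (y : M)
          (by rw [Subgroup.orderOf_coe]; exact hx) (by rw [Subgroup.orderOf_coe]; exact hy))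
        exact Subgroup.mem_zpowers_iff.2 ⟨j, Subtype.ext (by simpa using hj)⟩ }
  have hyN' : y ∈ normalizer ((U ⊓ C : Subgroup M) : Set M) := by
    rw [Subgroup.mem_normalizer_iff] at hyN ⊢
    intro n
    simp only [Subgroup.mem_inf, ← hyN n]
    refine and_congr_right fun _ => ⟨fun h => hCn.conj_mem n h y, fun h => ?_⟩
    have := hCn.conj_mem _ h y⁻¹
    simpa [mul_assoc] using this
  have hmove' : y ∉ centralizer ((U ⊓ C : Subgroup M) : Set M) := by
    intro h
    apply hmove
    by_cases hUC : U ≤ C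
    · rwa [inf_eq_left.2 hUC] at h
    refine mem_centralizer_of_half U (U ⊓ C) hU inf_le_left ?_ hyN hyodd
      (fun v hv => (Subgroup.mem_centralizer_iff.1 h v hv).symm)
    have h1 := (C.relIndex_dvd_index_of_normal U).trans hidx
    rcases (Nat.dvd_prime Nat.prime_two).1 h1 with h2 | h2
    · exact absurd (Subgroup.relIndex_eq_one.1 h2) hUC
    · have h3 := Subgroup.relIndex_mul_relIndex (⊥ : Subgroup M) (U ⊓ C) U bot_le inf_le_left
      rw [Subgroup.relIndex_bot_left, Subgroup.relIndex_bot_left, inf_comm, Subgroup.inf_relIndex_right, h2] at h3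
      rw [inf_comm]; linarith
  obtain ⟨hA1, hA2, hA3, u, v, huv⟩ := hsC.center_of_moved
    (x₀ := (⟨x₀, (hmemC x₀).2 rfl⟩ : C)) (by rw [← Subgroup.orderOf_coe]; exact hx₀)
    (fun g => Subtype.ext ((hmemC g).1 g.2))
    (U.subgroupOf C) (by exact hU.comap_subtype) (y := (⟨y, hyC⟩ : C))
    (by
      rw [Subgroup.mem_normalizer_iff] at hyN ⊢
      intro n
      simp only [Subgroup.mem_subgroupOf]
      exact hyN (n : M))
    (i := i) (by rw [← Subgroup.orderOf_coe]; exact hi)
    (fun h => hmove' (Subgroup.mem_centralizer_iff.2 fun n hn =>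
      congrArg Subtype.val (Subgroup.mem_centralizer_iff.1 h ⟨n, hn.2⟩ hn.1)))
  apply huv
  apply Subtype.ext
  have hAcard : Nat.card ((center C).map C.subtype) = Nat.card (center C) :=
    Subgroup.card_map_of_injective C.subtype_injective
  refine hex ((center C).map C.subtype) (C.index * (center C).index) ?_ ?_ ?_ ?_ ?_ (u : M) (v : M) ?_ ?_
  · rintro _ ⟨a, ha, rfl⟩ _ ⟨b, -, rfl⟩
    rw [← map_mul, ← map_mul, (Subgroup.mem_center_iff.1 ha b).symm]
  · rw [hAcard, mul_assoc, (center C).index_mul_card, C.index_mul_card]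
  · exact mul_dvd_mul hidx hA1
  · rw [hAcard]; exact hA2
  · exact hA3.trans (Subgroup.card_subgroup_dvd_card C)
  · rintro _ ⟨a, ha, rfl⟩
    exact congrArg Subtype.val (Subgroup.mem_center_iff.1 ha u).symm
  · rintro _ ⟨a, ha, rfl⟩
    exact congrArg Subtype.val (Subgroup.mem_center_iff.1 ha v).symm

end CfsgLib.SharpThree
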